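import Cfsg.Agent.Lib.PGroup.Frattini
import Cfsg.Prelude.Def_ClassificationK

/-!
# 2-groups of symplectic type and exponent at most four

* `commutator_and_square_mem`: if every abelian characteristic subgroup of a 2-group `P` of exponent dividing 4 is
  cyclic then all commutators and all squares of `P` are central of order at most two.
* `unique_central_involution`.
-/

set_option autoImplicit false

namespace Cfsg.Agent.TI

open Subgroup
open scoped commutatorElement

variable {P : Type*} [Group P] [Finite P]

/-- In a cyclic group there is at most one involution. -/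
theorem eq_of_cyclic_sq {A : Type*} [Group A] [Finite A] [IsCyclic A] {x y : A} (hx : x ^ 2 = 1) (hy : y ^ 2 = 1)
    (hx1 : x ≠ 1) (hy1 : y ≠ 1) : x = y := by
  classical
  cases nonempty_fintype A
  by_contra hne
  have h1 : ({1, x, y} : Finset A) ⊆ ({a : A | a ^ 2 = 1} : Finset A) := by
    intro a ha
    simp only [Finset.mem_insert, Finset.mem_singleton] at ha
    rcases ha with rfl | rfl | rfl <;> simp [hx, hy]
  have h2 := le_trans (Finset.card_le_card h1) (IsCyclic.card_pow_eq_one_le two_pos)
  rw [Finset.card_insert_of_notMem (by simp [Ne.symm hx1, Ne.symm hy1]),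
    Finset.card_insert_of_notMem (by simp [hne]), Finset.card_singleton] at h2
  omega

/-- The only central involution of a 2-group of symplectic type. -/
theorem unique_central_involution (hP : IsOfSymplecticType P) {x y : P}
    (hx : x ∈ center P) (hy : y ∈ center P) (hx2 : x * x = 1) (hy2 : y * y = 1) (hx1 : x ≠ 1) (hy1 : y ≠ 1) :
    x = y := by
  haveI : IsCyclic ↥(center P) := hP.2 _ inferInstance inferInstance
  exact congrArg Subtype.val (eq_of_cyclic_sq (x := (⟨x, hx⟩ : ↥(center P))) (y := ⟨y, hy⟩)
    (Subtype.ext (by simpa [pow_two] using hx2)) (Subtype.ext (by simpa [pow_two] using hy2))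
    (fun h => hx1 (congrArg Subtype.val h)) (fun h => hy1 (congrArg Subtype.val h)))

/-- Squares of a 2-group centralise every normal subgroup of order four. -/
theorem sq_commute_of_card_four (hP : IsPGroup 2 P) {V : Subgroup P} [V.Normal] (hV : Nat.card V = 4) (x : P) :
    ∀ v ∈ V, x ^ 2 * v = v * x ^ 2 := by
  haveI : Fact (Nat.Prime 2) := ⟨Nat.prime_two⟩
  have hlt : ⁅V, (⊤ : Subgroup P)⁆ < V :=
    PGroup.commutator_top_lt hP V fun h => by rw [h, card_bot] at hV; omega
  have hdvd : Nat.card ↥⁅V, (⊤ : Subgroup P)⁆ ∣ 4 := hV ▸ card_dvd_of_le hlt.le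
  have hle : Nat.card ↥⁅V, (⊤ : Subgroup P)⁆ ≤ 2 := by
    have := PGroup.mul_card_le_card hP hlt
    omega
  intro v hv
  set c := x * v * x⁻¹ * v⁻¹ with hc
  have hcmem : c ∈ ⁅V, (⊤ : Subgroup P)⁆ := by
    rw [hc, Subgroup.commutator_comm]
    exact commutator_mem_commutator (mem_top x) hv
  by_cases hc1 : c = 1
  · have h1 : Commute x v := mul_inv_eq_iff_eq_mul.mp (mul_inv_eq_one.mp hc1)
    exact (h1.pow_left 2).eq
  have hcard : Nat.card ↥⁅V, (⊤ : Subgroup P)⁆ = 2 := by
    have hne : Nat.card ↥⁅V, (⊤ : Subgroup P)⁆ ≠ 1 := fun h => hc1 (by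
      rw [card_eq_one.mp h, mem_bot] at hcmem; exact hcmem)
    have hpos := Nat.card_pos (α := ↥⁅V, (⊤ : Subgroup P)⁆)
    omega
  have hcc : c ∈ center P := PGroup.le_center_of_card_eq hP _ hcard hcmem
  have hc2 : c * c = 1 := by
    have h := pow_card_eq_one' (x := (⟨c, hcmem⟩ : ↥⁅V, (⊤ : Subgroup P)⁆))
    rw [hcard, pow_two] at h
    exact congrArg Subtype.val h
  calc x ^ 2 * v = x * (c * v * x) := by rw [hc, pow_two]; group
    _ = c * (x * v) * x := by rw [← mul_assoc, ← mul_assoc, mem_center_iff.mp hcc x]; group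
    _ = c * (c * v * x) * x := by rw [hc]; group
    _ = c * c * (v * x ^ 2) := by rw [pow_two]; group
    _ = v * x ^ 2 := by rw [hc2, one_mul]

/-- **Symplectic type, exponent four**: the Frattini subgroup is central of order at most two. -/
theorem frattini_le_two (hP : IsOfSymplecticType P) (h4 : ∀ x : P, x ^ 4 = 1) :
    Nat.card ↥(frattini P) ≤ 2 := by
  haveI : Fact (Nat.Prime 2) := ⟨Nat.prime_two⟩
  set D : Subgroup P := frattini P with hD
  have hgen : D = closure (Set.range fun x : P => x ^ 2) := by
    refine le_antisymm ?_ ((closure_le _).mpr ?_)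
    · have hle : commutator P ≤ closure (Set.range fun x : P => x ^ 2) := by
        rw [_root_.commutator_def, commutator_le]
        intro a _ b _
        have : ⁅a, b⁆ = a ^ 2 * (a⁻¹ * b) ^ 2 * (b⁻¹) ^ 2 := by
          rw [commutatorElement_def]; simp only [pow_two]; group
        rw [this]
        exact mul_mem (mul_mem (subset_closure ⟨a, rfl⟩) (subset_closure ⟨_, rfl⟩)) (subset_closure ⟨_, rfl⟩)
      exact PGroup.frattini_le (p := 2) hle fun x => subset_closure ⟨x, rfl⟩
    · rintro _ ⟨x, rfl⟩
      exact PGroup.pow_mem_frattini hP.1 x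
  have hDc : D.Characteristic := inferInstance
  by_cases hab : IsMulCommutative D
  · haveI : IsCyclic D := hP.2 D hDc hab
    have hsq : ∀ d ∈ D, d * d = 1 := by
      intro d hd
      rw [hgen] at hd
      refine (closure_induction (p := fun y _ => y ∈ D ∧ y * y = 1) ?_ ?_ ?_ ?_ hd).2
      · rintro _ ⟨x, rfl⟩
        refine ⟨PGroup.pow_mem_frattini hP.1 x, ?_⟩
        show x ^ 2 * x ^ 2 = 1
        rw [← pow_add]
        exact h4 x
      · exact ⟨one_mem _, one_mul 1⟩
      · rintro a b _ _ ⟨ha, ha'⟩ ⟨hb, hb'⟩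
        refine ⟨mul_mem ha hb, ?_⟩
        have hc : b * a = a * b := congrArg Subtype.val (hab.is_comm.comm (⟨b, hb⟩ : D) ⟨a, ha⟩)
        calc a * b * (a * b) = a * (b * a) * b := by group
          _ = a * a * (b * b) := by rw [hc]; group
          _ = 1 := by rw [ha', hb', one_mul]
      · rintro a _ ⟨ha, ha'⟩
        exact ⟨inv_mem ha, by rw [← mul_inv_rev, ha', inv_one]⟩
    obtain ⟨g, hg⟩ := IsCyclic.exists_generator (α := D)
    rw [← orderOf_eq_card_of_forall_mem_zpowers hg]
    refine Nat.le_of_dvd two_pos (orderOf_dvd_of_pow_eq_one (Subtype.ext ?_))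
    simpa [pow_two] using hsq g g.2
  · exfalso
    set Z : Subgroup P := (center D).map D.subtype with hZ
    haveI : (center D).Characteristic := inferInstance
    haveI : D.Normal := inferInstance
    haveI hZc : Z.Characteristic := by
      rw [characteristic_iff_map_le]
      intro e
      rintro _ ⟨_, ⟨d, hd, rfl⟩, rfl⟩
      have hmem : e (d : P) ∈ D := characteristic_iff_map_le.mp hDc e ⟨d, d.2, rfl⟩
      refine ⟨⟨e (d : P), hmem⟩, mem_center_iff.mpr fun y => Subtype.ext ?_, rfl⟩
      have hy : e.symm (y : P) ∈ D := characteristic_iff_map_le.mp hDc e.symm ⟨y, y.2, rfl⟩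
      have h := congrArg (fun z : D => e (z : P)) (mem_center_iff.mp hd ⟨e.symm (y : P), hy⟩)
      simpa using h
    haveI : IsMulCommutative Z := inferInstance
    haveI hZcyc : IsCyclic Z := hP.2 Z hZc inferInstance
    -- every normal subgroup of order four in `D` lies in `Z`
    have hfour : ∀ V : Subgroup P, V.Normal → V ≤ D → Nat.card V = 4 → V ≤ Z := by
      intro V hVn hVD hV v hv
      refine ⟨⟨v, hVD hv⟩, mem_center_iff.mpr fun d => Subtype.ext ?_, rfl⟩
      have hd : (d : P) ∈ closure (Set.range fun x : P => x ^ 2) := hgen ▸ d.2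
      have hle : closure (Set.range fun x : P => x ^ 2) ≤ centralizer (V : Set P) := by
        rw [closure_le]
        rintro _ ⟨x, rfl⟩
        exact mem_centralizer_iff.mpr fun w hw => (sq_commute_of_card_four hP.1 hV x w hw).symm
      exact (mem_centralizer_iff.mp (hle hd) v hv).symm
    have hD8 : 8 ≤ Nat.card D := by
      by_contra hlt
      apply hab
      obtain ⟨n, hn⟩ := PGroup.card_eq_pow hP.1 D
      have hn2 : n ≤ 2 := by
        by_contra h
        have : 2 ^ 3 ≤ 2 ^ n := Nat.pow_le_pow_right two_pos (by omega)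
        omega
      interval_cases n
      · haveI : Subsingleton D := (Nat.card_eq_one_iff_unique.mp (by simpa using hn)).1
        exact ⟨⟨fun a b => Subsingleton.elim _ _⟩⟩
      · haveI : IsCyclic D := isCyclic_of_prime_card (p := 2) (by simpa using hn)
        exact inferInstance
      · exact IsPGroup.isMulCommutative_of_card_eq_prime_sq (p := 2) (by simpa using hn)
    obtain ⟨W, hWn, -, hWD, hW⟩ := PGroup.exists_normal_card_between hP.1 ⊥ D bot_le 3
      (by simp) (by simpa using hD8)
    obtain ⟨V, hVn, -, hVW, hV⟩ := PGroup.exists_normal_card_between hP.1 ⊥ W bot_le 2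
      (by simp) (by rw [hW]; norm_num)
    norm_num at hV hW
    have hVZ := hfour V hVn (hVW.trans hWD) hV
    obtain ⟨w, hw, hwV⟩ : ∃ w ∈ W, w ∉ V := by
      by_contra hcon
      push Not at hcon
      have := card_le_of_le (show W ≤ V from hcon)
      omega
    have hcomm : ∀ v ∈ V, ∀ u ∈ W, v * u = u * v := by
      intro v hv u hu
      obtain ⟨d, hd, rfl⟩ := hVZ hv
      exact (congrArg Subtype.val (mem_center_iff.mp hd ⟨u, hWD hu⟩)).symm
    -- an involution of `W` outside `V`
    obtain ⟨e, he, heV, he2⟩ : ∃ e ∈ W, e ∉ V ∧ e * e = 1 := by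
      by_cases hw2 : w * w = 1
      · exact ⟨w, hw, hwV, hw2⟩
      haveI : IsCyclic V := isCyclic_of_injective (Subgroup.inclusion hVZ) (Subgroup.inclusion_injective hVZ)
      obtain ⟨i, hi⟩ := IsCyclic.exists_generator (α := V)
      have hoi : orderOf (i : P) = 4 := by
        rw [orderOf_coe, orderOf_eq_card_of_forall_mem_zpowers hi, hV]
      have hwwV : w * w ∈ V := by
        have hidx : (V.subgroupOf W).index = 2 := by
          have h := card_mul_index (V.subgroupOf W)
          rw [Nat.card_congr (subgroupOfEquivOfLe hVW).toEquiv, hV, hW] at h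
          omega
        have := mul_self_mem_of_index_two hidx (⟨w, hw⟩ : W)
        exact mem_subgroupOf.mp this
      have hw4 : (w * w) * (w * w) = 1 := by
        rw [← h4 w]
        simp only [pow_succ, pow_zero, one_mul, mul_assoc]
      have hii : ((i : P) * i) * (i * i) = 1 := by
        rw [← h4 (i : P)]
        simp only [pow_succ, pow_zero, one_mul, mul_assoc]
      have hii1 : (i : P) * i ≠ 1 := fun h => by
        have := Nat.le_of_dvd two_pos (orderOf_dvd_of_pow_eq_one (by rw [pow_two]; exact h : (i : P) ^ 2 = 1))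
        omega
      have heq : w * w = (i : P) * i := congrArg Subtype.val (eq_of_cyclic_sq
        (x := (⟨w * w, hwwV⟩ : V)) (y := ⟨(i : P) * i, mul_mem i.2 i.2⟩)
        (Subtype.ext (by simpa [pow_two] using hw4)) (Subtype.ext (by simpa [pow_two] using hii))
        (fun h => hw2 (congrArg Subtype.val h)) (fun h => hii1 (congrArg Subtype.val h)))
      refine ⟨w * i, mul_mem hw (hVW i.2), fun h => hwV (by simpa using mul_mem h (inv_mem i.2)), ?_⟩
      calc w * i * (w * i) = w * ((i : P) * w) * i := by group
        _ = w * (w * i) * i := by rw [hcomm i i.2 w hw]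
        _ = w * w * ((i : P) * i) := by group
        _ = 1 := by rw [heq, hii]
    -- `W` is abelian and its elements of square one form a normal four-group
    have hWeq : W ≤ V ⊔ zpowers e := by
      have h1 : V < V ⊔ zpowers e := left_lt_sup.mpr fun h => heV (h (mem_zpowers e))
      have h2 := PGroup.mul_card_le_card hP.1 h1
      exact (eq_of_le_of_card_ge (sup_le hVW (zpowers_le.mpr he)) (by omega)).ge
    haveI hWab : IsMulCommutative W := by
      have hc : W ≤ centralizer (W : Set P) := by
        refine hWeq.trans (sup_le (fun v hv => mem_centralizer_iff.mpr fun u hu => (hcomm v hv u hu).symm) ?_)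
        rw [zpowers_le]
        refine mem_centralizer_iff.mpr fun u hu => ?_
        have hmem : u ∈ centralizer ({e} : Set P) :=
          (hWeq.trans (sup_le (fun v hv => mem_centralizer_singleton_iff.mpr (hcomm v hv e he))
            (zpowers_le.mpr (mem_centralizer_singleton_iff.mpr rfl)))) hu
        exact mem_centralizer_singleton_iff.mp hmem
      exact ⟨⟨fun a b => Subtype.ext (mem_centralizer_iff.mp (hc b.2) a a.2)⟩⟩
    have hcW : ∀ a ∈ W, ∀ b ∈ W, a * b = b * a := fun a ha b hb =>
      congrArg Subtype.val (hWab.is_comm.comm (⟨a, ha⟩ : W) ⟨b, hb⟩)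
    let U : Subgroup P :=
      { carrier := {x | x ∈ W ∧ x * x = 1}
        one_mem' := ⟨one_mem _, one_mul 1⟩
        mul_mem' := fun {a b} ha hb => ⟨mul_mem ha.1 hb.1, by
          calc a * b * (a * b) = a * (b * a) * b := by group
            _ = a * (a * b) * b := by rw [hcW b hb.1 a ha.1]
            _ = (a * a) * (b * b) := by group
            _ = 1 := by rw [ha.2, hb.2, one_mul]⟩
        inv_mem' := fun {a} ha => ⟨inv_mem ha.1, by rw [← mul_inv_rev, ha.2, inv_one]⟩ }
    have hUn : U.Normal := ⟨fun x hx g => ⟨hWn.conj_mem x hx.1 g, by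
      calc g * x * g⁻¹ * (g * x * g⁻¹) = g * (x * x) * g⁻¹ := by group
        _ = 1 := by rw [hx.2]; group⟩⟩
    have hUW : U ≤ W := fun x hx => hx.1
    obtain ⟨v, hv, hvne⟩ : ∃ v, orderOf v = 2 ∧ v ∈ V := by
      obtain ⟨v, hv⟩ := exists_prime_orderOf_dvd_card' 2 (by rw [hV]; norm_num : 2 ∣ Nat.card V)
      exact ⟨v, by rw [orderOf_coe, hv], v.2⟩
    have hvU : v ∈ U := ⟨hVW hvne, by rw [← pow_two, ← hv, pow_orderOf_eq_one]⟩
    have heU : e ∈ U := ⟨he, he2⟩
    have hUne : U ≠ W := by
      intro h
      have hall : ∀ x ∈ V, x * x = 1 := fun x hx => ((h ▸ hVW hx : x ∈ U)).2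
      haveI : IsCyclic V := isCyclic_of_injective (Subgroup.inclusion hVZ) (Subgroup.inclusion_injective hVZ)
      obtain ⟨i, hi⟩ := IsCyclic.exists_generator (α := V)
      have hle := Nat.le_of_dvd two_pos (orderOf_dvd_of_pow_eq_one (x := i)
        (Subtype.ext (by simpa [pow_two] using hall i i.2)))
      rw [orderOf_eq_card_of_forall_mem_zpowers hi, hV] at hle
      omega
    have hUcard : Nat.card U = 4 := by
      have h1 := PGroup.mul_card_le_card hP.1 (lt_of_le_of_ne hUW hUne)
      have h2 : zpowers v < U := by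
        refine lt_of_le_of_ne (zpowers_le.mpr hvU) fun h => ?_
        have : e ∈ zpowers v := h ▸ heU
        exact heV (zpowers_le.mpr hvne this)
      have h3 := PGroup.mul_card_le_card hP.1 h2
      rw [Nat.card_zpowers, hv] at h3
      omega
    have hUZ := hfour U hUn (hUW.trans hWD) hUcard
    have hv1 : v ≠ 1 := fun h => by rw [h, orderOf_one] at hv; omega
    have he1 : e ≠ 1 := fun h => heV (h ▸ one_mem V)
    have := eq_of_cyclic_sq (x := (⟨v, hUZ hvU⟩ : Z)) (y := ⟨e, hUZ heU⟩)
      (Subtype.ext (by simpa [pow_two] using hvU.2)) (Subtype.ext (by simpa [pow_two] using he2))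
      (fun h => hv1 (congrArg Subtype.val h)) (fun h => he1 (congrArg Subtype.val h))
    have hve : v = e := congrArg Subtype.val this
    exact heV (hve ▸ hvne)

/-- In a symplectic type 2-group of exponent four every commutator and every square is central and equals
`1` or the unique central involution. -/
theorem commutator_and_square_mem (hP : IsOfSymplecticType P) (h4 : ∀ x : P, x ^ 4 = 1) {z : P}
    (hz : z ∈ center P) (hz2 : z * z = 1) (hz1 : z ≠ 1) :
    (∀ a b : P, ⁅a, b⁆ = 1 ∨ ⁅a, b⁆ = z) ∧ ∀ a : P, a * a = 1 ∨ a * a = z := by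
  haveI : Fact (Nat.Prime 2) := ⟨Nat.prime_two⟩
  have hle := frattini_le_two hP h4
  have hkey : ∀ d ∈ frattini P, d = 1 ∨ d = z := by
    intro d hd
    refine or_iff_not_imp_left.mpr fun hd1 => ?_
    have hcard : Nat.card ↥(frattini P) = 2 := by
      have hne : Nat.card ↥(frattini P) ≠ 1 := fun h => hd1 (by
        rw [card_eq_one.mp h, mem_bot] at hd; exact hd)
      have hpos := Nat.card_pos (α := ↥(frattini P))
      omega
    refine unique_central_involution hP (PGroup.le_center_of_card_eq hP.1 _ hcard hd) hz ?_ hz2 hd1 hz1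
    have h := pow_card_eq_one' (x := (⟨d, hd⟩ : ↥(frattini P)))
    rw [hcard, pow_two] at h
    exact congrArg Subtype.val h
  refine ⟨fun a b => hkey _ (PGroup.commutator_le_frattini hP.1 ?_), fun a => hkey _ ?_⟩
  · exact commutator_mem_commutator (mem_top a) (mem_top b)
  · rw [← pow_two]; exact PGroup.pow_mem_frattini hP.1 a

end Cfsg.Agent.TI
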