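import Cfsg.Agent.Lib.PGroup.Extraspecial
import Cfsg.Agent.Lib.Components.GenFitting
import Cfsg.Prelude.Def_Local

/-!
# Automorphisms of extraspecial 2-groups, involution centralisers with `F*` a 2-group

* `isExtraspecial_congr`
* `mem_genFitting_of_central`: a central element of a finite group lies in `F*`.
* `fix_center`: an automorphism fixes a centre of order two pointwise.
* `center_fixModCenter`: for an involutory non-trivial automorphism `f` of an extraspecial 2-group `Q`, the subgroup
  generated by the `f q * q⁻¹` is the centraliser and the centre of `{q | f q * q⁻¹ ∈ Z(Q)}`.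
* `exists_eq_conj`: an involutory automorphism fixing a subgroup of index two is inner.
-/

set_option autoImplicit false

namespace Cfsg.Agent.TI

open Subgroup
open scoped commutatorElement

theorem isExtraspecial_congr {A B : Type*} [Group A] [Group B] {p : ℕ} (e : A ≃* B)
    (h : IsExtraspecial p A) : IsExtraspecial p B := by
  obtain ⟨⟨hp, hf, hc⟩, hz⟩ := h
  have hcen : (center A).map e.toMonoidHom = center B := by
    refine le_antisymm ?_ fun b hb => ⟨e.symm b, mem_center_iff.mpr fun a => e.injective ?_, by simp⟩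
    · rintro _ ⟨a, ha, rfl⟩
      refine mem_center_iff.mpr fun b => ?_
      obtain ⟨b, rfl⟩ := e.surjective b
      exact (map_mul e b a).symm.trans ((congrArg e (mem_center_iff.mp ha b)).trans (map_mul e a b))
    · simp [mem_center_iff.mp hb (e a)]
  have hfr : (frattini A).map e.toMonoidHom = frattini B := by
    refine le_antisymm (map_le_iff_le_comap.mpr (frattini_le_comap_frattini_of_surjective e.surjective))
      fun b hb => ⟨e.symm b, ?_, by simp⟩
    exact frattini_le_comap_frattini_of_surjective (φ := e.symm.toMonoidHom) e.symm.surjective hb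
  refine ⟨⟨hp.of_equiv e, ?_, ?_⟩, ?_⟩
  · rw [← hfr, hf, hcen]
  · rw [← hcen, ← hc, _root_.commutator_def, _root_.commutator_def, map_commutator]
    rw [Subgroup.map_top_of_surjective e.toMonoidHom e.surjective]
  · rw [← hcen, card_map_of_injective e.injective, hz]

theorem mem_genFitting_of_central {C : Type*} [Group C] [Finite C] {z : C} (hz : z ∈ center C) :
    z ∈ generalizedFittingSubgroup C :=
  Components.centralizer_generalizedFittingSubgroup_le
    (mem_centralizer_iff.mpr fun y _ => mem_center_iff.mp hz y)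

variable {E : Type*} [Group E] [Finite E]

/-- An automorphism fixes every element of a centre of order two. -/
theorem fix_center (h2 : Nat.card ↥(center E) = 2) (f : MulAut E) {z : E} (hz : z ∈ center E) :
    f z = z := by
  by_cases h1 : z = 1
  · simp [h1]
  obtain ⟨u, v, huv, huniv⟩ := Nat.card_eq_two_iff.mp h2
  have hfz : f z ∈ center E := mem_center_iff.mpr fun b => by
    obtain ⟨b, rfl⟩ := f.surjective b
    rw [← map_mul, ← map_mul, mem_center_iff.mp hz b]
  have key : ∀ a b : ↥(center E), (a : E) ≠ 1 → (b : E) ≠ 1 → a = b := by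
    intro a b ha hb
    have hall : ∀ w : ↥(center E), w = u ∨ w = v := fun w => by
      have := huniv.ge (Set.mem_univ w)
      simpa using this
    rcases hall 1 with h | h <;> rcases hall a with ha' | ha' <;> rcases hall b with hb' | hb' <;>
      first
      | exact ha'.trans hb'.symm
      | exact absurd (congrArg Subtype.val (ha'.trans h.symm)) ha
      | exact absurd (congrArg Subtype.val (hb'.trans h.symm)) hb
  exact congrArg Subtype.val (key ⟨f z, hfz⟩ ⟨z, hz⟩ (fun h => h1 (f.injective (h.trans (map_one f).symm))) h1)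

/-- For an involutory automorphism `f ≠ 1` of an extraspecial 2-group, with `D = {q | f q q⁻¹ ∈ Z}`: the subgroup
generated by all `f q q⁻¹` equals `C(D)` and is contained in `D`. -/
theorem center_fixModCenter (hE : IsExtraspecial 2 E) (f : MulAut E) (hf2 : ∀ q, f (f q) = q)
    (hf1 : ∃ q, f q ≠ q) (D : Subgroup E) (hD : ∀ q, q ∈ D ↔ f q * q⁻¹ ∈ center E) :
    closure (Set.range fun q => f q * q⁻¹) = centralizer (D : Set E) ∧
      closure (Set.range fun q => f q * q⁻¹) ≤ D := by
  haveI : Fact (Nat.Prime 2) := ⟨Nat.prime_two⟩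
  set R : Subgroup E := closure (Set.range fun q => f q * q⁻¹) with hR
  have hmemR : ∀ q, f q * q⁻¹ ∈ R := fun q => subset_closure ⟨q, rfl⟩
  have hnorm : R.Normal := by
    refine ⟨fun x hx g => ?_⟩
    induction hx using closure_induction with
    | mem x hx =>
      obtain ⟨q, rfl⟩ := hx
      have : g * (f q * q⁻¹) * g⁻¹ = (f g * g⁻¹)⁻¹ * (f (g * q) * (g * q)⁻¹) := by
        rw [map_mul]; group
      show g * (f q * q⁻¹) * g⁻¹ ∈ R
      rw [this]
      exact mul_mem (inv_mem (hmemR g)) (hmemR (g * q))
    | one => simp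
    | mul a b _ _ ha hb =>
      have : g * (a * b) * g⁻¹ = (g * a * g⁻¹) * (g * b * g⁻¹) := by group
      rw [this]; exact mul_mem ha hb
    | inv a _ ha =>
      have : g * a⁻¹ * g⁻¹ = (g * a * g⁻¹)⁻¹ := by group
      rw [this]; exact inv_mem ha
  have hR1 : R ≠ ⊥ := by
    obtain ⟨q, hq⟩ := hf1
    intro h
    have := hmemR q
    rw [h, mem_bot] at this
    exact hq (mul_inv_eq_one.mp this)
  have hZR : center E ≤ R := PGroup.center_le_of_normal_ne_bot hE R hR1
  have hsq : ∀ x : E, x ^ 2 ∈ center E := PGroup.special_pow_mem_center hE.1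
  have hRD : R ≤ D := by
    rw [hR, closure_le]
    rintro _ ⟨q, rfl⟩
    rw [SetLike.mem_coe, hD]
    have : f (f q * q⁻¹) * (f q * q⁻¹)⁻¹ = ((f q * q⁻¹)⁻¹) ^ 2 := by
      simp [map_mul, hf2, pow_two, mul_assoc]
    rw [this]
    exact hsq _
  have hRC : R ≤ centralizer (D : Set E) := by
    rw [hR, closure_le]
    rintro _ ⟨q, rfl⟩
    refine mem_centralizer_iff.mpr fun d hd => ?_
    have hc := fix_center hE.2 f (PGroup.special_commutator_mem_center hE.1 d q)
    have hζ := (hD d).mp hd
    have h1 : d * f q * d⁻¹ = ⁅d, q⁆ * f q := by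
      rw [commutatorElement_def] at hc ⊢
      simp only [map_mul, map_inv] at hc
      have h2 : f d = d * (f d * d⁻¹) := by rw [mem_center_iff.mp hζ d]; group
      have h3 : d * f q * d⁻¹ = f d * f q * (f d)⁻¹ := by
        conv_rhs => rw [h2]
        calc d * f q * d⁻¹ = d * (f q * (f d * d⁻¹)) * (d * (f d * d⁻¹))⁻¹ := by group
          _ = d * ((f d * d⁻¹) * f q) * (d * (f d * d⁻¹))⁻¹ := by rw [mem_center_iff.mp hζ (f q)]
          _ = d * (f d * d⁻¹) * f q * (d * (f d * d⁻¹))⁻¹ := by group
      rw [h3, ← hc]; group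
    have h4 : d * (f q * q⁻¹) * d⁻¹ = f q * q⁻¹ := by
      calc d * (f q * q⁻¹) * d⁻¹ = (d * f q * d⁻¹) * (d * q * d⁻¹ * q⁻¹ * q)⁻¹ := by group
        _ = ⁅d, q⁆ * (f q * q⁻¹) * ⁅d, q⁆⁻¹ := by rw [h1, ← commutatorElement_def]; group
        _ = f q * q⁻¹ := by
          rw [← mem_center_iff.mp (PGroup.special_commutator_mem_center hE.1 d q) (f q * q⁻¹),
            mul_inv_cancel_right]
    exact mul_inv_eq_iff_eq_mul.mp h4
  have hZD : center E ≤ D := fun z hz => (hD z).mpr (by rw [fix_center hE.2 f hz, mul_inv_cancel]; exact one_mem _)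
  have hprod := PGroup.extraspecial_card_mul_card_centralizer hE hZD
  -- `q ↦ (f q * q⁻¹) Z` is a homomorphism with kernel `D`
  let φ : E →* E ⧸ center E := MonoidHom.mk' (fun q => QuotientGroup.mk (f q * q⁻¹)) fun a b => by
    show ((f (a * b) * (a * b)⁻¹ : E) : E ⧸ center E) = ((f a * a⁻¹ * (f b * b⁻¹) : E) : E ⧸ center E)
    rw [QuotientGroup.eq]
    have : (f (a * b) * (a * b)⁻¹)⁻¹ * (f a * a⁻¹ * (f b * b⁻¹)) = ⁅a, (f b * b⁻¹)⁻¹⁆ := by
      rw [map_mul, commutatorElement_def]; group
    rw [this]
    exact PGroup.special_commutator_mem_center hE.1 _ _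
  have hker : φ.ker = D := by
    ext q
    rw [MonoidHom.mem_ker, hD]
    exact QuotientGroup.eq_one_iff _
  have hrange : φ.range = R.map (QuotientGroup.mk' (center E)) := by
    refine le_antisymm ?_ ?_
    · rintro _ ⟨q, rfl⟩
      exact ⟨_, hmemR q, rfl⟩
    · rw [map_le_iff_le_comap, hR, closure_le]
      rintro _ ⟨q, rfl⟩
      exact ⟨q, rfl⟩
  have hcardR : Nat.card ↥R = D.index * 2 := by
    rw [← hker, Subgroup.index_ker, hrange, ← hE.2]
    have h := Subgroup.card_mul_index ((QuotientGroup.mk' (center E)).comp R.subtype).ker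
    rw [Subgroup.index_ker] at h
    have hk : ((QuotientGroup.mk' (center E)).comp R.subtype).ker = (center E).subgroupOf R := by
      ext x; simp [mem_subgroupOf, QuotientGroup.eq_one_iff]
    have hr : ((QuotientGroup.mk' (center E)).comp R.subtype).range = R.map (QuotientGroup.mk' (center E)) := by
      rw [MonoidHom.range_eq_map, ← map_map, ← MonoidHom.range_eq_map, range_subtype]
    rw [hk, hr, Nat.card_congr (subgroupOfEquivOfLe hZR).toEquiv] at h
    rw [← h, mul_comm]
  refine ⟨eq_of_le_of_card_ge hRC ?_, hRD⟩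
  rw [hcardR]
  refine le_of_eq (Nat.eq_of_mul_eq_mul_left (Nat.card_pos (α := ↥D)) ?_)
  rw [hprod, ← mul_assoc, card_mul_index, mul_comm]

/-- An involutory automorphism of an extraspecial 2-group fixing a subgroup `D` of index two is inner. -/
theorem exists_eq_conj (hE : IsExtraspecial 2 E) (f : MulAut E) (hf2 : ∀ q, f (f q) = q)
    (D : Subgroup E) (hD : ∀ q, q ∈ D ↔ f q = q) (hi : D.index = 2) : ∃ a : E, ∀ q, f q = a * q * a⁻¹ := by
  haveI : Fact (Nat.Prime 2) := ⟨Nat.prime_two⟩
  have hZD : center E ≤ D := fun z hz => (hD z).mpr (fix_center hE.2 f hz)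
  have hcard : Nat.card ↥(centralizer (D : Set E)) = 4 := by
    have h := PGroup.extraspecial_card_mul_card_centralizer hE hZD
    rw [← Subgroup.card_mul_index D, hi] at h
    exact Nat.eq_of_mul_eq_mul_left (Nat.card_pos (α := ↥D)) (by rw [h]; ring)
  obtain ⟨a, ha, haZ⟩ : ∃ a ∈ centralizer (D : Set E), a ∉ center E := by
    by_contra hcon
    push Not at hcon
    have := Nat.le_of_dvd Nat.card_pos (card_dvd_of_le (show centralizer (D : Set E) ≤ center E from hcon))
    rw [hcard, hE.2] at this
    omega
  obtain ⟨x, hx⟩ : ∃ x, x ∉ D := by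
    by_contra hcon
    push Not at hcon
    rw [show D = ⊤ from eq_top_iff.mpr fun q _ => hcon q, index_top] at hi
    omega
  have hmul : ∀ {u v : E}, u ∉ D → v ∉ D → u * v ∈ D := fun hu hv => by
    rw [mul_mem_iff_of_index_two hi]; exact iff_of_false hu hv
  set d := f x * x⁻¹ with hd
  have hfx : f x ∉ D := fun h => hx ((hD x).mpr (by
    have h' := (hD (f x)).mp h
    rw [hf2] at h'
    exact h'.symm))
  have hdD : d ∈ D := hmul hfx (fun h => hx (inv_mem_iff.mp h))
  have hcomm : ∀ y ∈ D, Commute d y := by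
    intro y hy
    have hc := fix_center hE.2 f (PGroup.special_commutator_mem_center hE.1 x y)
    rw [commutatorElement_def] at hc
    simp only [map_mul, map_inv, (hD y).mp hy] at hc
    have h1 : f x * y * (f x)⁻¹ = x * y * x⁻¹ := mul_right_cancel hc
    show f x * x⁻¹ * y = y * (f x * x⁻¹)
    have hn : (x⁻¹ * y * x : E) ∈ D := by
      have := (Subgroup.normal_of_index_eq_two hi).conj_mem y hy x⁻¹
      simpa using this
    have hc2 := fix_center hE.2 f (PGroup.special_commutator_mem_center hE.1 x (x⁻¹ * y * x))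
    rw [commutatorElement_def] at hc2
    simp only [map_mul, map_inv] at hc2
    have h2 : f x * (x⁻¹ * y * x) * (f x)⁻¹ = x * (x⁻¹ * y * x) * x⁻¹ := by
      have h3 := (hD _).mp hn
      simp only [map_mul, map_inv] at h3
      rw [h3] at hc2
      exact mul_right_cancel hc2
    calc f x * x⁻¹ * y = f x * (x⁻¹ * y * x) * (f x)⁻¹ * (f x * x⁻¹) := by group
      _ = y * (f x * x⁻¹) := by rw [h2]; group
  have hd2 : d * d = 1 := by
    have h1 : f d = d := (hD d).mp hdD
    have h2 : f d = x * (f x)⁻¹ := by rw [hd, map_mul, map_inv, hf2]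
    calc d * d = d * f d := by rw [h1]
      _ = 1 := by rw [h2, hd]; group
  have hdx : Commute d x := by
    have h1 : f (x ^ 2) = x ^ 2 := fix_center hE.2 f (PGroup.special_pow_mem_center hE.1 x)
    have h2 : f x = d * x := by rw [hd]; group
    rw [map_pow, h2, pow_two, pow_two] at h1
    have h3 : d * x * d = x := mul_right_cancel (by rw [← mul_assoc] at h1; exact h1)
    show d * x = x * d
    calc d * x = d * x * (d * d) := by rw [hd2, mul_one]
      _ = (d * x * d) * d := by group
      _ = x * d := by rw [h3]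
  have hdZ : d ∈ center E := by
    refine mem_center_iff.mpr fun q => ?_
    by_cases hq : q ∈ D
    · exact (hcomm q hq).eq.symm
    · have h1 : Commute d (q * x⁻¹) := hcomm _ (hmul hq (fun h => hx (inv_mem_iff.mp h)))
      have := h1.mul_right hdx
      rw [inv_mul_cancel_right] at this
      exact this.eq.symm
  have hax : ⁅a, x⁆ ≠ 1 := by
    intro h
    refine haZ (mem_center_iff.mpr fun q => ?_)
    have hc := commutatorElement_eq_one_iff_mul_comm.mp h
    by_cases hq : q ∈ D
    · exact mem_centralizer_iff.mp ha q hq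
    · have h1 : Commute (q * x⁻¹) a := mem_centralizer_iff.mp ha _ (hmul hq (fun h => hx (inv_mem_iff.mp h)))
      have := h1.mul_left (show Commute x a from hc.symm)
      rw [inv_mul_cancel_right] at this
      exact this.eq
  have hd1 : d ≠ 1 := fun h => hx ((hD x).mpr (mul_inv_eq_one.mp h))
  have hdax : d = ⁅a, x⁆ := by
    obtain ⟨u, v, huv, huniv⟩ := Nat.card_eq_two_iff.mp hE.2
    have hall : ∀ w : ↥(center E), w = u ∨ w = v := fun w => by
      have := huniv.ge (Set.mem_univ w)
      simpa using this
    have e : (⟨d, hdZ⟩ : ↥(center E)) = ⟨⁅a, x⁆, PGroup.special_commutator_mem_center hE.1 a x⟩ := by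
      rcases hall 1 with h | h <;> rcases hall ⟨d, hdZ⟩ with h' | h' <;>
        rcases hall ⟨⁅a, x⁆, PGroup.special_commutator_mem_center hE.1 a x⟩ with h'' | h'' <;>
        first
        | exact h'.trans h''.symm
        | exact absurd (congrArg Subtype.val (h'.trans h.symm)) hd1
        | exact absurd (congrArg Subtype.val (h''.trans h.symm)) hax
    exact congrArg Subtype.val e
  refine ⟨a, fun q => ?_⟩
  have hfix : ∀ y ∈ D, f y = a * y * a⁻¹ := fun y hy => by
    rw [(hD y).mp hy, ← mem_centralizer_iff.mp ha y hy, mul_inv_cancel_right]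
  have hfa : f x = a * x * a⁻¹ := by
    have h2 : f x = d * x := by rw [hd]; group
    rw [h2, hdax, commutatorElement_def, inv_mul_cancel_right]
  by_cases hq : q ∈ D
  · exact hfix q hq
  · have h1 := hfix _ (hmul hq (fun h => hx (inv_mem_iff.mp h)))
    calc f q = f (q * x⁻¹) * f x := by rw [← map_mul, inv_mul_cancel_right]
      _ = a * q * a⁻¹ := by rw [h1, hfa]; group

end Cfsg.Agent.TI
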