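import Mathlib.RingTheory.LittleWedderburn
import Mathlib.Algebra.Ring.Subring.Basic
import Mathlib.Algebra.Group.Hom.Basic
import Mathlib.Logic.Small.Basic
import Mathlib.Algebra.Field.TransferInstance
import Mathlib.Algebra.Group.Shrink
import Mathlib.Tactic.Abel

/-!
# Finite semifields of characteristic two with both Bol identities are fields

A small instance of Artin–Zorn: a finite, unital, bi-additive product without zero divisors on an abelian group of
exponent two satisfying `(x(yx))z = x(y(xz))` and `z((xy)x) = ((zx)y)x` is commutative and associative.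
-/

set_option autoImplicit false

namespace Cfsg.Agent.TI

/-- A unital bi-additive product of characteristic two, without zero divisors, with both Bol identities. -/
structure BolProduct {D : Type*} [AddCommGroup D] (m : D →+ D →+ D) (e : D) : Prop where
  ne : e ≠ 0
  char2 : ∀ x : D, x + x = 0
  one_mul : ∀ x, m e x = x
  mul_one : ∀ x, m x e = x
  noZero : ∀ x y, m x y = 0 → x = 0 ∨ y = 0
  lbol : ∀ x y z, m (m x (m y x)) z = m x (m y (m x z))
  rbol : ∀ x y z, m z (m (m x y) x) = m (m (m z x) y) x

namespace BolProduct

variable {D : Type*} [AddCommGroup D] {m : D →+ D →+ D} {e : D}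

/-- The associator. -/
def assoc (m : D →+ D →+ D) (x y z : D) : D := m (m x y) z + m x (m y z)

theorem eq_of_add_eq_zero (h : BolProduct m e) {x y : D} (hxy : x + y = 0) : x = y := by
  rw [← add_zero x, ← h.char2 y, ← add_assoc, hxy, zero_add]

theorem left_alt (h : BolProduct m e) (x z : D) : assoc m x x z = 0 := by
  have := h.lbol x e z
  rw [h.one_mul, h.one_mul] at this
  rw [assoc, this, h.char2]

theorem right_alt (h : BolProduct m e) (x z : D) : assoc m z x x = 0 := by
  have := h.rbol x e z
  rw [h.mul_one, h.mul_one] at this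
  rw [assoc, this, h.char2]

theorem assoc_swap₁₂ (h : BolProduct m e) (x y z : D) : assoc m x y z = assoc m y x z := by
  have h1 := h.left_alt (x + y) z
  have h2 := h.left_alt x z
  have h3 := h.left_alt y z
  simp only [assoc, map_add, AddMonoidHom.add_apply] at h1 h2 h3 ⊢
  refine h.eq_of_add_eq_zero ?_
  rw [← h1, ← zero_add (m (m x y) z + _ + _), ← h2, ← add_zero (_ + (m (m x y) z + _ + _)), ← h3]
  abel

theorem assoc_swap₂₃ (h : BolProduct m e) (x y z : D) : assoc m x y z = assoc m x z y := by
  have h1 := h.right_alt (y + z) x
  have h2 := h.right_alt y x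
  have h3 := h.right_alt z x
  simp only [assoc, map_add, AddMonoidHom.add_apply] at h1 h2 h3 ⊢
  refine h.eq_of_add_eq_zero ?_
  rw [← h1, ← zero_add (m (m x y) z + _ + _), ← h2, ← add_zero (_ + (m (m x y) z + _ + _)), ← h3]
  abel

theorem assoc_key (h : BolProduct m e) (x y z : D) : assoc m x (m y x) z = m x (assoc m x y z) := by
  rw [h.assoc_swap₁₂ x y z]
  simp only [assoc, map_add]
  rw [h.lbol]
  abel

theorem assoc_key_lin (h : BolProduct m e) (x u y z : D) :
    assoc m u (m y x) z + assoc m x (m y u) z = m u (assoc m x y z) + m x (assoc m u y z) := by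
  have h1 := h.assoc_key (x + u) y z
  have h2 := h.assoc_key x y z
  have h3 := h.assoc_key u y z
  simp only [assoc, map_add, AddMonoidHom.add_apply] at h1 h2 h3 ⊢
  refine h.eq_of_add_eq_zero ?_
  have e1 := sub_eq_zero.mpr h1
  have e2 := sub_eq_zero.mpr h2
  have e3 := sub_eq_zero.mpr h3
  have hn : ∀ w : D, -w = w := fun w => neg_eq_of_add_eq_zero_right (h.char2 w)
  simp only [sub_eq_add_neg, hn] at e1 e2 e3
  rw [← e1, ← zero_add (_ + _ + (_ + _)), ← e2, ← zero_add (_ + (_ + _ + (_ + _))), ← e3]
  abel

/-- The associator identity valid for every bi-additive product, in characteristic two. -/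
theorem teichmuller (h : BolProduct m e) (x y z t : D) :
    assoc m (m x y) z t + assoc m x (m y z) t + assoc m x y (m z t) +
      (m x (assoc m y z t) + m (assoc m x y z) t) = 0 := by
  simp only [assoc, map_add, AddMonoidHom.add_apply]
  have := h.char2
  abel_nf
  simp [two_nsmul, two_zsmul, this]

/-- Right-normed words in `a` and `b`. -/
def word (m : D →+ D →+ D) (e a b : D) : List Bool → D
  | [] => e
  | c :: l => m (word m e a b l) (if c then a else b)

theorem assoc_one (h : BolProduct m e) (x y : D) :
    assoc m x e y = 0 ∧ assoc m x y e = 0 := by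
  simp [assoc, h.one_mul, h.mul_one, h.char2]

theorem assoc_gen_word (h : BolProduct m e) (a b : D) (n : ℕ) :
    ∀ v w : List Bool, v.length + w.length = n → ∀ s : Bool,
      assoc m (if s then a else b) (word m e a b v) (word m e a b w) = 0 := by
  induction n using Nat.strong_induction_on with
  | _ n ih =>
    intro v w hn s
    rcases v with _ | ⟨c, v'⟩
    · exact (h.assoc_one _ _).1
    rcases w with _ | ⟨d, w'⟩
    · exact (h.assoc_one _ _).2
    simp only [List.length_cons] at hn
    by_cases hcs : c = s
    · subst hcs
      rw [word, h.assoc_key, ih _ (by simp; omega) v' (d :: w') rfl c, map_zero]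
    by_cases hds : d = s
    · subst hds
      rw [h.assoc_swap₂₃]
      nth_rw 1 [word]
      rw [h.assoc_key, ih _ (by simp; omega) w' (c :: v') rfl d, map_zero]
    have hcd : d = c := by cases c <;> cases d <;> cases s <;> simp_all
    subst hcd
    have hlin := h.assoc_key_lin (if d then a else b) (if s then a else b) (word m e a b v')
      (word m e a b (d :: w'))
    have h2 : assoc m (if d then a else b) (word m e a b (s :: v')) (word m e a b (d :: w')) = 0 := by
      rw [h.assoc_swap₂₃]
      nth_rw 1 [word]
      rw [h.assoc_key, ih _ (by simp; omega) w' (s :: v') rfl d, map_zero]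
    rw [ih _ (by simp; omega) v' (d :: w') rfl d, ih _ (by simp; omega) v' (d :: w') rfl s, map_zero,
      map_zero, add_zero] at hlin
    have := h.eq_of_add_eq_zero hlin
    rw [word, this]
    exact h2

/-- The span of the words in `a` and `b`. -/
def span (m : D →+ D →+ D) (e a b : D) : AddSubgroup D := AddSubgroup.closure (Set.range (word m e a b))

theorem assoc_gen (h : BolProduct m e) (a b : D) (s : Bool) {v w : D} (hv : v ∈ span m e a b)
    (hw : w ∈ span m e a b) : assoc m (if s then a else b) v w = 0 := by
  induction hv using AddSubgroup.closure_induction with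
  | mem v hv =>
    obtain ⟨v, rfl⟩ := hv
    induction hw using AddSubgroup.closure_induction with
    | mem w hw => obtain ⟨w, rfl⟩ := hw; exact h.assoc_gen_word a b _ v w rfl s
    | zero => simp [assoc]
    | add p q _ _ hp hq =>
      simp only [assoc, map_add, AddMonoidHom.add_apply] at hp hq ⊢
      rw [add_add_add_comm, hp, hq, add_zero]
    | neg p _ hp =>
      rw [neg_eq_of_add_eq_zero_right (h.char2 p)]; exact hp
  | zero => simp [assoc]
  | add p q _ _ hp hq =>
    simp only [assoc, map_add, AddMonoidHom.add_apply] at hp hq ⊢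
    rw [add_add_add_comm, hp, hq, add_zero]
  | neg p _ hp => rw [neg_eq_of_add_eq_zero_right (h.char2 p)]; exact hp

theorem mul_mem_span (h : BolProduct m e) (a b : D) {v w : D} (hv : v ∈ span m e a b)
    (hw : w ∈ span m e a b) : m v w ∈ span m e a b := by
  have hright : ∀ {u : D}, u ∈ span m e a b → ∀ s : Bool, m u (if s then a else b) ∈ span m e a b := by
    intro u hu s
    induction hu using AddSubgroup.closure_induction with
    | mem u hu => obtain ⟨u, rfl⟩ := hu; exact AddSubgroup.subset_closure ⟨s :: u, rfl⟩
    | zero => simp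
    | add p q _ _ hp hq => rw [map_add, AddMonoidHom.add_apply]; exact add_mem hp hq
    | neg p _ hp => rw [map_neg, AddMonoidHom.neg_apply]; exact neg_mem hp
  induction hw using AddSubgroup.closure_induction with
  | mem w hw =>
    obtain ⟨w, rfl⟩ := hw
    induction w with
    | nil => rw [word, h.mul_one]; exact hv
    | cons s w ih =>
      have hw' : word m e a b w ∈ span m e a b := AddSubgroup.subset_closure ⟨w, rfl⟩
      have h0 := h.assoc_gen a b s hv hw'
      rw [h.assoc_swap₁₂, h.assoc_swap₂₃] at h0
      show m v (m (word m e a b w) _) ∈ _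
      rw [← h.eq_of_add_eq_zero h0]
      exact hright ih s
  | zero => simp
  | add p q _ _ hp hq => rw [map_add]; exact add_mem hp hq
  | neg p _ hp => rw [map_neg]; exact neg_mem hp

theorem assoc_span (h : BolProduct m e) (a b : D) {u v w : D} (hu : u ∈ span m e a b)
    (hv : v ∈ span m e a b) (hw : w ∈ span m e a b) : assoc m u v w = 0 := by
  induction hw using AddSubgroup.closure_induction with
  | mem w hw =>
    obtain ⟨w, rfl⟩ := hw
    induction w with
    | nil => exact (h.assoc_one u v).2
    | cons s w ih =>
      have hw' : word m e a b w ∈ span m e a b := AddSubgroup.subset_closure ⟨w, rfl⟩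
      have ht := h.teichmuller u v (word m e a b w) (if s then a else b)
      have z1 : assoc m (m u v) (word m e a b w) (if s then a else b) = 0 := by
        rw [h.assoc_swap₂₃, h.assoc_swap₁₂]; exact h.assoc_gen a b s (h.mul_mem_span a b hu hv) hw'
      have z2 : assoc m u (m v (word m e a b w)) (if s then a else b) = 0 := by
        rw [h.assoc_swap₂₃, h.assoc_swap₁₂]; exact h.assoc_gen a b s hu (h.mul_mem_span a b hv hw')
      have z3 : assoc m v (word m e a b w) (if s then a else b) = 0 := by
        rw [h.assoc_swap₂₃, h.assoc_swap₁₂]; exact h.assoc_gen a b s hv hw'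
      rw [z1, z2, z3, ih] at ht
      simp only [map_zero, AddMonoidHom.zero_apply, zero_add, add_zero] at ht
      exact ht
  | zero => simp [assoc]
  | add p q _ _ hp hq =>
    simp only [assoc, map_add] at hp hq ⊢
    rw [add_add_add_comm, hp, hq, add_zero]
  | neg p _ hp => rw [neg_eq_of_add_eq_zero_right (h.char2 p)]; exact hp

theorem mul_comm' [Finite D] (h : BolProduct m e) (a b : D) : m a b = m b a := by
  set S := span m e a b with hS
  have he : e ∈ S := AddSubgroup.subset_closure ⟨[], rfl⟩
  have ha : a ∈ S := AddSubgroup.subset_closure ⟨[true], by simp [word, h.one_mul]⟩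
  have hb : b ∈ S := AddSubgroup.subset_closure ⟨[false], by simp [word, h.one_mul]⟩
  let R : Ring S :=
    { (inferInstance : AddCommGroup S) with
      mul := fun x y => ⟨m x y, h.mul_mem_span a b x.2 y.2⟩
      one := ⟨e, he⟩
      one_mul := fun x => Subtype.ext (h.one_mul x)
      mul_one := fun x => Subtype.ext (h.mul_one x)
      zero_mul := fun x => Subtype.ext (show m (0 : D) x = 0 by simp)
      mul_zero := fun x => Subtype.ext (show m (x : D) 0 = 0 by simp)
      left_distrib := fun x y z => Subtype.ext (show m (x : D) (y + z) = m x y + m x z by simp)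
      right_distrib := fun x y z => Subtype.ext (show m ((x : D) + y) z = m x z + m y z by simp)
      mul_assoc := fun x y z => Subtype.ext (h.eq_of_add_eq_zero (h.assoc_span a b x.2 y.2 z.2)) }
  letI := R
  haveI : Nontrivial S := ⟨⟨1, 0, fun hh => h.ne (congrArg Subtype.val hh)⟩⟩
  haveI : NoZeroDivisors S := ⟨fun {x y} hxy =>
    (h.noZero x y (congrArg Subtype.val hxy)).imp (fun hx => Subtype.ext hx) (fun hy => Subtype.ext hy)⟩
  haveI : IsDomain S := NoZeroDivisors.to_isDomain S
  exact congrArg Subtype.val ((Finite.isDomain_to_isField S).mul_comm ⟨a, ha⟩ ⟨b, hb⟩)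

theorem mul_assoc' [Finite D] (h : BolProduct m e) (x y z : D) : m (m x y) z = m x (m y z) := by
  refine h.eq_of_add_eq_zero ?_
  have hcyc : assoc m x y z + assoc m y z x + assoc m z x y = 0 := by
    simp only [assoc]
    rw [h.mul_comm' x (m y z), h.mul_comm' y (m z x), h.mul_comm' z (m x y)]
    have := h.char2
    abel_nf
    simp [two_nsmul, two_zsmul, this]
  rw [h.assoc_swap₁₂ y z x, h.assoc_swap₂₃ z y x, h.assoc_swap₁₂ z x y, h.assoc_swap₂₃ x z y] at hcyc
  rw [show assoc m x y z + assoc m x y z = 0 from h.char2 _, zero_add] at hcyc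
  exact hcyc

end BolProduct

/-- A finite semifield of characteristic two with both Bol identities is (isomorphic to) a finite field in
universe zero. -/
theorem exists_field_of_bolProduct {D : Type*} [AddCommGroup D] [Finite D] {m : D →+ D →+ D} {e : D}
    (h : BolProduct m e) :
    ∃ (F : Type) (_ : Field F) (_ : Fintype F) (f : F ≃+ D), f 1 = e ∧ ∀ a b, f (a * b) = m (f a) (f b) := by
  classical
  letI R : CommRing D :=
    { (inferInstance : AddCommGroup D) with
      mul := fun x y => m x y
      one := e
      one_mul := h.one_mul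
      mul_one := h.mul_one
      zero_mul := fun x => show m (0 : D) x = 0 by simp
      mul_zero := fun x => show m x 0 = 0 by simp
      left_distrib := fun x y z => show m x (y + z) = m x y + m x z by simp
      right_distrib := fun x y z => show m (x + y) z = m x z + m y z by simp
      mul_assoc := h.mul_assoc'
      mul_comm := h.mul_comm' }
  haveI : Nontrivial D := ⟨⟨1, 0, h.ne⟩⟩
  haveI : NoZeroDivisors D := ⟨fun {x y} hxy => h.noZero x y hxy⟩
  haveI : IsDomain D := NoZeroDivisors.to_isDomain D
  cases nonempty_fintype D
  letI K : Field D := (Finite.isDomain_to_isField D).toField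
  refine ⟨Shrink.{0} D, (equivShrink.{0} D).symm.field, Fintype.ofEquiv D (equivShrink.{0} D), ?_⟩
  letI := (equivShrink.{0} D).symm.field
  refine ⟨((equivShrink.{0} D).symm.ringEquiv).toAddEquiv, ?_, fun a b => ?_⟩
  · exact map_one ((equivShrink.{0} D).symm.ringEquiv)
  · exact map_mul ((equivShrink.{0} D).symm.ringEquiv) a b

end Cfsg.Agent.TI
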