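import Cfsg.Agent.Lib.TI.Abelian
import Mathlib.GroupTheory.PGroup
import Mathlib.Order.Atoms.Finite

/-!
# TI families in 2-groups

* `commute_family`: a conjugation invariant family of pairwise trivially intersecting subgroups of the same order
  and of exponent greater than two in a finite 2-group consists of pairwise commuting subgroups.
-/

set_option autoImplicit false

namespace Cfsg.Agent.TI

open Subgroup
open scoped commutatorElement

variable {S : Type*} [Group S] [Finite S]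

/-- The conjugates of `R` pairwise commute and meet trivially. -/
structure CommConj (R : Subgroup S) : Prop where
  comm : ∀ g : S, g ∉ normalizer (R : Set S) → ∀ r ∈ R, ∀ r' ∈ R,
    r * (g⁻¹ * r' * g) = g⁻¹ * r' * g * r
  ti : ∀ g : S, g ∉ normalizer (R : Set S) → ∀ r ∈ R, g⁻¹ * r * g ∈ R → r = 1

omit [Finite S] in
theorem CommConj.normalClosure_le {R : Subgroup S} (h : CommConj R) :
    normalClosure (R : Set S) ≤ normalizer (R : Set S) := by
  refine (closure_le _).mpr fun x hx => ?_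
  obtain ⟨r, hr, hconj⟩ := Group.mem_conjugatesOfSet_iff.mp hx
  obtain ⟨g, rfl⟩ := isConj_iff.mp hconj
  by_cases hg : g⁻¹ ∈ normalizer (R : Set S)
  · exact le_normalizer (conj_mem_of_mem_normalizer (by simpa using inv_mem hg) hr)
  · refine centralizer_le_normalizer _ (mem_centralizer_iff.mpr fun y hy => ?_)
    have h1 := h.comm _ hg y hy r hr
    simpa using h1

omit [Finite S] in
theorem CommConj.unique {R : Subgroup S} (h : CommConj R) {t : S} (ht : t ∉ normalizer (R : Set S))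
    {a b c d : S} (ha : a ∈ R) (hb : b ∈ R) (hc : c ∈ R) (hd : d ∈ R)
    (he : a * (t⁻¹ * b * t) = c * (t⁻¹ * d * t)) : a = c ∧ b = d := by
  have h1 : c⁻¹ * a = t⁻¹ * (d * b⁻¹) * t := by
    calc c⁻¹ * a = c⁻¹ * (a * (t⁻¹ * b * t)) * (t⁻¹ * b⁻¹ * t) := by group
      _ = t⁻¹ * (d * b⁻¹) * t := by rw [he]; group
  have h2 : d * b⁻¹ = 1 := h.ti t ht _ (mul_mem hd (inv_mem hb)) (h1 ▸ mul_mem (inv_mem hc) ha)
  rw [h2, mul_one, inv_mul_cancel] at h1
  exact ⟨(inv_mul_eq_one.mp h1).symm, (mul_inv_eq_one.mp h2).symm⟩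

omit [Finite S] in
theorem commutator_mem_normalClosure (T : Subgroup S) {t : S} (ht : t ∈ T) (x : S) :
    x⁻¹ * (t⁻¹ * x * t) ∈ normalClosure (T : Set S) := by
  have h1 := (normalClosure_normal (s := (T : Set S))).conj_mem t⁻¹
    (subset_normalClosure (inv_mem ht)) x⁻¹
  have h2 := mul_mem h1 (subset_normalClosure (s := (T : Set S)) ht)
  simpa [mul_assoc] using h2

omit [Finite S] in
theorem mem_commutator {R T : Subgroup S} (hT : CommConj T) {t : S} (ht : t ∈ T) {u : S}
    (hu : u ∈ R ⊓ normalClosure (T : Set S)) :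
    u⁻¹ * (t⁻¹ * u * t) ∈ T ⊓ normalClosure (R : Set S) := by
  obtain ⟨huR, huW⟩ := mem_inf.mp hu
  refine mem_inf.mpr ⟨?_, ?_⟩
  · have h1 := conj_mem_of_mem_normalizer (inv_mem (hT.normalClosure_le huW)) (inv_mem ht)
    simpa [mul_assoc] using mul_mem h1 ht
  · have h1 := subset_normalClosure (s := (R : Set S)) huR
    have h2 := (normalClosure_normal (s := (R : Set S))).conj_mem u h1 t⁻¹
    simpa using mul_mem (inv_mem h1) h2

theorem card_le {R T : Subgroup S} (hR : CommConj R) (hT : CommConj T) {t : S} (ht : t ∈ T)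
    (htR : t ∉ normalizer (R : Set S)) :
    Nat.card ↥(R ⊓ normalClosure (T : Set S)) ≤ Nat.card ↥(T ⊓ normalClosure (R : Set S)) := by
  refine Nat.card_le_card_of_injective
    (fun u : ↥(R ⊓ normalClosure (T : Set S)) =>
      (⟨_, mem_commutator hT ht u.2⟩ : ↥(T ⊓ normalClosure (R : Set S)))) fun u v h => ?_
  exact Subtype.ext (hR.unique htR (inv_mem u.2.1) u.2.1 (inv_mem v.2.1) v.2.1 (congrArg Subtype.val h)).2

/-- Facts about `R ∩ ⟨T^S⟩` and `T ∩ ⟨R^S⟩`. -/
theorem pair_facts {R T : Subgroup S} (hR : CommConj R) (hT : CommConj T) {s t : S} (hs : s ∈ R)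
    (hsT : s ∉ normalizer (T : Set S)) (ht : t ∈ T) (htR : t ∉ normalizer (R : Set S)) :
    (∀ a ∈ T ⊓ normalClosure (R : Set S), ∃ u ∈ R ⊓ normalClosure (T : Set S), a = u⁻¹ * (t⁻¹ * u * t)) ∧
    (∀ u ∈ R ⊓ normalClosure (T : Set S), ∀ v ∈ R ⊓ normalClosure (T : Set S), u * v = v * u) := by
  have hcard := le_antisymm (card_le hR hT ht htR) (card_le hT hR hs hsT)
  let f : ↥(R ⊓ normalClosure (T : Set S)) → ↥(T ⊓ normalClosure (R : Set S)) :=
    fun u => ⟨_, mem_commutator hT ht u.2⟩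
  have hf : Function.Injective f := fun u v h =>
    Subtype.ext (hR.unique htR (inv_mem u.2.1) u.2.1 (inv_mem v.2.1) v.2.1 (congrArg Subtype.val h)).2
  have hbij := hf.bijective_of_nat_card_le hcard.ge
  have hsurj : ∀ a ∈ T ⊓ normalClosure (R : Set S),
      ∃ u ∈ R ⊓ normalClosure (T : Set S), a = u⁻¹ * (t⁻¹ * u * t) := fun a ha => by
    obtain ⟨u, hu⟩ := hbij.2 ⟨a, ha⟩
    exact ⟨u, u.2, (congrArg Subtype.val hu).symm⟩
  refine ⟨hsurj, fun u hu v hv => ?_⟩
  obtain ⟨w, hw, he⟩ := hsurj _ (mul_mem (mem_commutator hT ht hu) (mem_commutator hT ht hv))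
  have hc := hR.comm t htR v⁻¹ (inv_mem hv.1) u hu.1
  have he' : u⁻¹ * v⁻¹ * (t⁻¹ * (u * v) * t) = w⁻¹ * (t⁻¹ * w * t) := by
    rw [← he]
    calc u⁻¹ * v⁻¹ * (t⁻¹ * (u * v) * t) = u⁻¹ * (v⁻¹ * (t⁻¹ * u * t)) * (t⁻¹ * v * t) := by group
      _ = u⁻¹ * ((t⁻¹ * u * t) * v⁻¹) * (t⁻¹ * v * t) := by rw [hc]
      _ = u⁻¹ * (t⁻¹ * u * t) * (v⁻¹ * (t⁻¹ * v * t)) := by group
  obtain ⟨h1, h2⟩ := hR.unique htR (mul_mem (inv_mem hu.1) (inv_mem hv.1)) (mul_mem hu.1 hv.1)
    (inv_mem hw.1) hw.1 he'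
  rw [← h2, mul_inv_rev] at h1
  simpa using (congrArg (fun x => x⁻¹) h1).symm

/-- `N_T(R) = T ∩ ⟨R^S⟩`. -/
theorem normalizer_mem {R T : Subgroup S} (hR : CommConj R) (hT : CommConj T) {s t : S} (hs : s ∈ R)
    (hsT : s ∉ normalizer (T : Set S)) (ht : t ∈ T) (htR : t ∉ normalizer (R : Set S))
    {b : S} (hb : b ∈ T) (hbN : b ∈ normalizer (R : Set S)) : b ∈ normalClosure (R : Set S) := by
  have h1 : b⁻¹ * (s⁻¹ * b * s) ∈ R ⊓ normalClosure (T : Set S) := by
    refine mem_inf.mpr ⟨?_, ?_⟩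
    · have h := conj_mem_of_mem_normalizer (inv_mem hbN) (inv_mem hs)
      simpa [mul_assoc] using mul_mem h hs
    · have h1 := subset_normalClosure (s := (T : Set S)) hb
      have h2 := (normalClosure_normal (s := (T : Set S))).conj_mem b h1 s⁻¹
      simpa using mul_mem (inv_mem h1) h2
  obtain ⟨a, ha, he⟩ := (pair_facts hT hR ht htR hs hsT).1 _ h1
  rw [(hT.unique hsT (inv_mem hb) hb (inv_mem ha.1) ha.1 he).2]
  exact ha.2

/-- An element `t ∈ T` outside `N(R)` with square inside inverts `T ∩ ⟨R^S⟩`. -/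
theorem inverts {R T : Subgroup S} (hR : CommConj R) (hT : CommConj T) {s t : S} (hs : s ∈ R)
    (hsT : s ∉ normalizer (T : Set S)) (ht : t ∈ T) (htR : t ∉ normalizer (R : Set S))
    (ht2 : t * t ∈ normalizer (R : Set S)) :
    ∀ a ∈ T ⊓ normalClosure (R : Set S), t⁻¹ * a * t = a⁻¹ := by
  obtain ⟨hsurj, hcomm⟩ := pair_facts hR hT hs hsT ht htR
  obtain ⟨w, hw, hwe⟩ := hsurj _ (mem_inf.mpr ⟨mul_mem ht ht,
    normalizer_mem hR hT hs hsT ht htR (mul_mem ht ht) ht2⟩)
  intro a ha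
  obtain ⟨u, hu, rfl⟩ := hsurj a ha
  -- `t * t` centralises `u`
  have hwu : u * (t * t) = t * t * u := by
    rw [hwe]
    have h1 := hR.comm t htR u hu.1 w hw.1
    calc u * (w⁻¹ * (t⁻¹ * w * t)) = u * w⁻¹ * (t⁻¹ * w * t) := by group
      _ = w⁻¹ * u * (t⁻¹ * w * t) := by rw [hcomm u hu w⁻¹ (inv_mem hw)]
      _ = w⁻¹ * (t⁻¹ * w * t) * u := by rw [mul_assoc, h1]; group
  calc t⁻¹ * (u⁻¹ * (t⁻¹ * u * t)) * t
      = (t⁻¹ * u⁻¹ * t) * ((t * t)⁻¹ * (u * (t * t))) := by group
    _ = (t⁻¹ * u⁻¹ * t) * u := by rw [hwu]; group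
    _ = (u⁻¹ * (t⁻¹ * u * t))⁻¹ := by group

/-- The contradiction: `R` has exponent two. -/
theorem sq_eq_one (hS : IsPGroup 2 S) {R T : Subgroup S} (hR : CommConj R) (hT : CommConj T) {s t : S} (hs : s ∈ R)
    (hsT : s ∉ normalizer (T : Set S)) (hs2 : s * s ∈ normalizer (T : Set S)) (ht : t ∈ T)
    (htR : t ∉ normalizer (R : Set S)) (ht2 : t * t ∈ normalizer (R : Set S)) :
    ∀ r ∈ R, r * r = 1 := by
  obtain ⟨hsurj, hcomm⟩ := pair_facts hR hT hs hsT ht htR
  have hbot : ∀ a ∈ T ⊓ normalClosure (R : Set S), a = 1 := by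
    intro a ha
    obtain ⟨u, hu, hae⟩ := hsurj a ha
    have husinv : s⁻¹ * u * s = u⁻¹ := inverts hT hR ht htR hs hsT hs2 u hu
    have hst : s⁻¹ * (t⁻¹ * u * t) * s = t⁻¹ * u * t := by
      rw [mul_assoc, ← hR.comm t htR s hs u hu.1, inv_mul_cancel_left]
    have has : s⁻¹ * a * s = u * u * a := by
      rw [hae]
      calc s⁻¹ * (u⁻¹ * (t⁻¹ * u * t)) * s
          = (s⁻¹ * u * s)⁻¹ * (s⁻¹ * (t⁻¹ * u * t) * s) := by group
        _ = u * (t⁻¹ * u * t) := by rw [husinv, inv_inv, hst]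
        _ = u * u * (u⁻¹ * (t⁻¹ * u * t)) := by group
    have hua : Commute u a := by
      have h1 : Commute u (t⁻¹ * u * t) := hR.comm t htR u hu.1 u hu.1
      rw [hae]
      exact ((Commute.refl u).inv_right).mul_right h1
    have hpow : ∀ n : ℕ, a ^ n = 1 → u ^ n = 1 := by
      intro n hn
      have h0 : Commute u (t⁻¹ * u * t) := hR.comm t htR u hu.1 u hu.1
      have h1 : Commute u⁻¹ (t⁻¹ * u * t) := h0.inv_left
      have hconj : (t⁻¹ * u * t) ^ n = t⁻¹ * u ^ n * t := by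
        have h := (map_pow (MulAut.conj t⁻¹).toMonoidHom u n).symm
        simpa using h
      rw [hae, h1.mul_pow, inv_pow, hconj] at hn
      exact (hR.unique htR (inv_mem (pow_mem hu.1 n)) (pow_mem hu.1 n) (one_mem R) (one_mem R)
        (by rw [hn]; group)).2
    have ha2 : a * a = 1 := by
      by_contra hne
      obtain ⟨k, hk⟩ := IsPGroup.iff_orderOf.mp hS a
      rcases k with _ | _ | j
      · exact hne (by rw [show a = 1 from orderOf_eq_one_iff.mp (by simpa using hk), one_mul])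
      · exact hne (by rw [← pow_two, show (2 : ℕ) = orderOf a by simpa using hk.symm, pow_orderOf_eq_one])
      · have hm : orderOf a = 2 * 2 ^ (j + 1) := by rw [hk, ← pow_succ']
        have h2 : s⁻¹ * a ^ 2 ^ (j + 1) * s = a ^ 2 ^ (j + 1) := by
          have h := map_pow (MulAut.conj s⁻¹).toMonoidHom a (2 ^ (j + 1))
          simp only [MulEquiv.coe_toMonoidHom, MulAut.conj_apply, inv_inv] at h
          rw [h, has, (hua.mul_left hua).mul_pow, ← pow_two, ← pow_mul, ← hm,
            hpow _ (pow_orderOf_eq_one a), one_mul]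
        have h1 : a ^ 2 ^ (j + 1) ∈ T := pow_mem ha.1 _
        have h4 := hT.ti s hsT _ h1 (h2.symm ▸ h1)
        have hp : 0 < 2 ^ (j + 1) := Nat.two_pow_pos _
        exact pow_ne_one_of_lt_orderOf (by omega) (by omega) h4
    have hu2 : u * u = 1 := by rw [← pow_two]; exact hpow 2 (by rw [pow_two]; exact ha2)
    rw [hu2, one_mul] at has
    exact hT.ti s hsT a ha.1 (has.symm ▸ ha.1)
  have hN1 : ∀ b ∈ T, b ∈ normalizer (R : Set S) → b = 1 := fun b hb hbN =>
    hbot b (mem_inf.mpr ⟨hb, normalizer_mem hR hT hs hsT ht htR hb hbN⟩)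
  have htt : t * t = 1 := hN1 _ (mul_mem ht ht) ht2
  intro r hr
  set x := r⁻¹ * (t⁻¹ * r * t) with hx
  have hxN : x ∈ normalizer (T : Set S) := hT.normalClosure_le (commutator_mem_normalClosure T ht r)
  have hxV : x ∈ normalClosure (R : Set S) := by
    have h1 := subset_normalClosure (s := (R : Set S)) hr
    have h2 := (normalClosure_normal (s := (R : Set S))).conj_mem r h1 t⁻¹
    simpa using mul_mem (inv_mem h1) h2
  have hxt : x * t * x⁻¹ * t⁻¹ = 1 := by
    refine hbot _ (mem_inf.mpr ⟨mul_mem (conj_mem_of_mem_normalizer hxN ht) (inv_mem ht), ?_⟩)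
    have h2 := (normalClosure_normal (s := (R : Set S))).conj_mem _ (inv_mem hxV) t
    simpa [mul_assoc] using mul_mem hxV h2
  have hxc : x * t = t * x := mul_inv_eq_iff_eq_mul.mp (mul_inv_eq_one.mp hxt)
  have htinv : t⁻¹ = t := inv_eq_of_mul_eq_one_right htt
  have h1 : t⁻¹ * r⁻¹ * t * r = r⁻¹ * (t⁻¹ * r * t) := by
    calc t⁻¹ * r⁻¹ * t * r = t⁻¹ * (r⁻¹ * (t⁻¹ * r * t)) * t := by
          rw [htinv]
          calc t * r⁻¹ * t * r = t * r⁻¹ * t * r * (t * t) := by rw [htt, mul_one]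
            _ = _ := by group
      _ = r⁻¹ * (t⁻¹ * r * t) := by rw [← hx, mul_assoc, hxc, inv_mul_cancel_left]
  have hc := hR.comm t htR r hr r⁻¹ (inv_mem hr)
  rw [← hc] at h1
  have h2 := (hR.unique htR hr (inv_mem hr) (inv_mem hr) hr h1).1
  calc r * r = r * r⁻¹ := by nth_rewrite 2 [h2]; rfl
    _ = 1 := mul_inv_cancel r

/-- In a finite 2-group, a conjugation invariant TI family of subgroups of one order and exponent `> 2` is
pairwise commuting. -/
theorem commute_family : ∀ (n : ℕ) (S : Type*) [Group S] [Finite S], Nat.card S = n → IsPGroup 2 S →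
    ∀ (Δ : Set (Subgroup S)), (∀ s : S, ∀ R ∈ Δ, R.map (MulAut.conj s).toMonoidHom ∈ Δ) →
    (∀ R ∈ Δ, ∃ r ∈ R, r * r ≠ 1) → (∀ R ∈ Δ, ∀ T ∈ Δ, Nat.card ↥R = Nat.card ↥T) →
    (∀ R ∈ Δ, ∀ T ∈ Δ, R = T ∨ R ⊓ T = ⊥) →
    ∀ R ∈ Δ, ∀ T ∈ Δ, R ≠ T → ⁅R, T⁆ = ⊥ := by
  intro n
  induction n using Nat.strong_induction_on with
  | _ n ih =>
    intro S _ _ hn hS Δ hinv hexp hord hti
    haveI : Fact (Nat.Prime 2) := ⟨Nat.prime_two⟩
    haveI := hS.isNilpotent
    have hne : ∀ R ∈ Δ, R ≠ ⊥ := by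
      intro R hR h
      obtain ⟨r, hr, hr2⟩ := hexp R hR
      rw [h, mem_bot] at hr
      exact hr2 (by rw [hr, one_mul])
    have htiR : ∀ R ∈ Δ, ∀ g : S, R.map (MulAut.conj g).toMonoidHom = R ∨
        R.map (MulAut.conj g).toMonoidHom ⊓ R = ⊥ := fun R hR g => hti _ (hinv g R hR) R hR
    have hcc : ∀ R ∈ Δ, R ≠ ⊤ → CommConj R := by
      intro R hR hRtop
      have hti' : ∀ g : S, g ∉ normalizer (R : Set S) → R.map (MulAut.conj g⁻¹).toMonoidHom ⊓ R = ⊥ := by
        intro g hg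
        refine (htiR R hR g⁻¹).resolve_left fun h => hg ?_
        simpa using inv_mem (mem_normalizer_iff_conj_eq.mpr h)
      refine ⟨?_, ?_⟩
      · intro g hg r hr r' hr'
        obtain ⟨M, hM, hRM⟩ := (IsCoatomic.eq_top_or_exists_le_coatom R).resolve_left hRtop
        have hMn : M.Normal := Group.normalizerCondition_of_isNilpotent.normal_of_coatom M hM
        have hlt : Nat.card M < n := by
          rw [← hn]
          exact lt_of_le_of_ne (card_le_card_group M) fun h => hM.1 ((card_eq_iff_eq_top M).mp h)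
        have hR'M : R.map (MulAut.conj g⁻¹).toMonoidHom ≤ M := by
          rintro _ ⟨x, hx, rfl⟩
          exact hMn.conj_mem x (hRM hx) g⁻¹
        have hmem : ∀ U ∈ Δ, U ≤ M → (U.subgroupOf M).map M.subtype = U :=
          fun U _ hU => map_subgroupOf_eq_of_le hU
        have hne' : R.subgroupOf M ≠ (R.map (MulAut.conj g⁻¹).toMonoidHom).subgroupOf M := by
          intro h
          have h' := congrArg (Subgroup.map M.subtype) h
          rw [map_subgroupOf_eq_of_le hRM, map_subgroupOf_eq_of_le hR'M] at h'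
          have := hti' g hg
          rw [← h', inf_idem] at this
          exact hne R hR this
        have key := ih _ hlt M rfl (hS.to_subgroup M) {U | U.map M.subtype ∈ Δ} ?_ ?_ ?_ ?_
          (R.subgroupOf M) (by show _ ∈ Δ; rw [map_subgroupOf_eq_of_le hRM]; exact hR)
          ((R.map (MulAut.conj g⁻¹).toMonoidHom).subgroupOf M)
          (by show _ ∈ Δ; rw [map_subgroupOf_eq_of_le hR'M]; exact hinv _ _ hR) hne'
        · have h1 := commutator_mem_commutator (H₁ := R.subgroupOf M)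
            (H₂ := (R.map (MulAut.conj g⁻¹).toMonoidHom).subgroupOf M)
            (g₁ := ⟨r, hRM hr⟩) (g₂ := ⟨g⁻¹ * r' * g, hR'M ⟨r', hr', by simp⟩⟩)
            (mem_subgroupOf.mpr hr) (mem_subgroupOf.mpr ⟨r', hr', by simp⟩)
          rw [key, mem_bot, commutatorElement_eq_one_iff_mul_comm] at h1
          exact congrArg Subtype.val h1
        · intro m U hU
          show (U.map (MulAut.conj m).toMonoidHom).map M.subtype ∈ Δ
          have : (U.map (MulAut.conj m).toMonoidHom).map M.subtype =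
              (U.map M.subtype).map (MulAut.conj (m : S)).toMonoidHom := by
            rw [map_map, map_map]
            congr 1
          rw [this]
          exact hinv _ _ hU
        · intro U hU
          obtain ⟨_, ⟨x, hx, rfl⟩, hx2⟩ := hexp _ hU
          exact ⟨x, hx, fun h => hx2 (by rw [← map_mul, h, map_one])⟩
        · intro U hU U' hU'
          have h := hord _ hU _ hU'
          rwa [card_map_of_injective M.subtype_injective, card_map_of_injective M.subtype_injective] at h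
        · intro U hU U' hU'
          refine (hti _ hU _ hU').imp (fun h => map_injective M.subtype_injective h) fun h => ?_
          rw [← map_inf _ _ _ M.subtype_injective, map_eq_bot_iff_of_injective _ M.subtype_injective] at h
          exact h
      · intro g hg r hr hgr
        rw [← mem_bot, ← hti' g hg]
        refine mem_inf.mpr ⟨?_, hr⟩
        have h1 := hti' g hg
        have h3 : g⁻¹ * r * g ∈ R.map (MulAut.conj g⁻¹).toMonoidHom ⊓ R := mem_inf.mpr ⟨⟨r, hr, by simp⟩, hgr⟩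
        rw [h1, mem_bot] at h3
        have : r = 1 := by
          calc r = g * (g⁻¹ * r * g) * g⁻¹ := by group
            _ = 1 := by rw [h3]; group
        rw [this]; exact one_mem _
    intro R hR T hT hRT
    have hint : R ⊓ T = ⊥ := (hti R hR T hT).resolve_left hRT
    by_contra hcomm
    have hstep : ∀ P ∈ Δ, ∀ U ∈ Δ, P ⊓ U = ⊥ → U ≤ normalizer (P : Set S) → ⁅P, U⁆ = ⊥ :=
      fun P hP U hU h hle => commutator_eq_bot 2 P U (hS.to_subgroup P) (hS.to_subgroup U) (htiR P hP)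
        (htiR U hU) (hord P hP U hU).le h hle
    have hTR : ¬ T ≤ normalizer (R : Set S) := fun h => hcomm (hstep R hR T hT hint h)
    have hRT' : ¬ R ≤ normalizer (T : Set S) := fun h => hcomm (by
      rw [commutator_comm]; exact hstep T hT R hR (by rw [inf_comm]; exact hint) h)
    have pick : ∀ P U : Subgroup S, ¬ U ≤ normalizer (P : Set S) →
        ∃ t ∈ U, t ∉ normalizer (P : Set S) ∧ t * t ∈ normalizer (P : Set S) := by
      intro P U hU
      obtain ⟨x, hx, hxN⟩ := SetLike.not_le_iff_exists.mp hU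
      obtain ⟨k, hk⟩ := hS x
      suffices ∀ j, ∀ x ∈ U, x ∉ normalizer (P : Set S) → x ^ (2 ^ j) = 1 →
          ∃ t ∈ U, t ∉ normalizer (P : Set S) ∧ t * t ∈ normalizer (P : Set S) from this k x hx hxN hk
      intro j
      induction j with
      | zero => intro x _ hxN h; rw [pow_zero, pow_one] at h; exact absurd (h ▸ one_mem _) hxN
      | succ j ihj =>
        intro x hx hxN h
        by_cases h2 : x * x ∈ normalizer (P : Set S)
        · exact ⟨x, hx, hxN, h2⟩
        · exact ihj (x * x) (mul_mem hx hx) h2 (by rw [← pow_two, ← pow_mul, ← pow_succ']; exact h)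
    obtain ⟨t, ht, htR, ht2⟩ := pick R T hTR
    obtain ⟨s, hs, hsT, hs2⟩ := pick T R hRT'
    have hRtop : R ≠ ⊤ := fun h => hne T hT (by rw [h, top_inf_eq] at hint; exact hint)
    have hTtop : T ≠ ⊤ := fun h => hne R hR (by rw [h, inf_top_eq] at hint; exact hint)
    obtain ⟨r, hr, hr2⟩ := hexp R hR
    exact hr2 (sq_eq_one hS (hcc R hR hRtop) (hcc T hT hTtop) hs hsT hs2 ht htR ht2 r hr)

end Cfsg.Agent.TI
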