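import Mathlib.GroupTheory.PGroup
import Mathlib.GroupTheory.QuotientGroup.Basic
import Mathlib.GroupTheory.Perm.Cycle.Type
import Mathlib.Algebra.Group.End

/-!
# Automorphisms `t` with `C(t^2) = C(t)`

* `fixed_of_sq`: a 2-power order automorphism `t` of a finite abelian 2-group with `C(t^2) ≤ C(t)` is trivial.
* `commute_of_sq`: the same for a 2-element acting by conjugation on an abelian 2-subgroup.
-/

set_option autoImplicit false

namespace Cfsg.Agent.TI

/-- A fixed point lemma: a `p`-element acting on a nontrivial finite `p`-group fixes an element of order `p`. -/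
theorem exists_fixed_orderOf {B : Type*} [Group B] [Finite B] [Nontrivial B] {p : ℕ} [Fact p.Prime]
    (hB : IsPGroup p B) (f : MulAut B) (hf : ∃ k : ℕ, orderOf f = p ^ k) :
    ∃ b : B, orderOf b = p ∧ f b = b := by
  obtain ⟨k, hk⟩ := hf
  let S : Subgroup (MulAut B) := Subgroup.zpowers f
  have hS : IsPGroup p S := IsPGroup.of_card (by rw [Nat.card_zpowers, hk])
  let C : Subgroup B :=
    { carrier := {b | f b = b}
      one_mem' := map_one f
      mul_mem' := fun {a b} (ha : f a = a) (hb : f b = b) => by simp [ha, hb]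
      inv_mem' := fun {a} (ha : f a = a) => by simp [ha] }
  have hC : C ≠ ⊥ := by
    intro hC
    have hdvd : p ∣ Nat.card B := by
      obtain ⟨n, hn, hc⟩ := hB.nontrivial_iff_card.mp inferInstance
      exact hc ▸ dvd_pow_self p hn.ne'
    obtain ⟨b, hb, hne⟩ := hS.exists_fixed_point_of_prime_dvd_card_of_fixed_point (α := B) hdvd
      (a := 1) (fun g => map_one (g : MulAut B))
    have hbC : b ∈ C := hb ⟨f, Subgroup.mem_zpowers f⟩
    rw [hC, Subgroup.mem_bot] at hbC
    exact hne hbC.symm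
  haveI := (Subgroup.nontrivial_iff_ne_bot C).mpr hC
  obtain ⟨n, hn, hc⟩ := (hB.to_subgroup C).nontrivial_iff_card.mp inferInstance
  obtain ⟨b, hb⟩ := exists_prime_orderOf_dvd_card' p (hc ▸ dvd_pow_self p hn.ne' : p ∣ Nat.card C)
  exact ⟨b, by rw [Subgroup.orderOf_coe]; exact hb, b.2⟩

/-- A 2-power order automorphism of a finite abelian 2-group all of whose fixed points of the square are fixed
is trivial. -/
theorem fixed_of_sq {A : Type*} [CommGroup A] [Finite A] (hA : IsPGroup 2 A) (t : MulAut A)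
    (ht : ∃ k : ℕ, orderOf t = 2 ^ k) (hC : ∀ a : A, t (t a) = a → t a = a) : ∀ a : A, t a = a := by
  let K : Subgroup A :=
    { carrier := {b | t b = b}
      one_mem' := map_one t
      mul_mem' := fun {a b} (ha : t a = a) (hb : t b = b) => by simp [ha, hb]
      inv_mem' := fun {a} (ha : t a = a) => by simp [ha] }
  suffices hK : K = ⊤ from fun a => (hK ▸ Subgroup.mem_top a : a ∈ K)
  by_contra hK
  have hKt : K.map t.toMonoidHom = K := by
    ext x
    rw [Subgroup.mem_map_equiv]
    constructor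
    · intro h
      have : t (t.symm x) = t.symm x := h
      rw [MulEquiv.apply_symm_apply] at this
      show t x = x
      conv_lhs => rw [this, MulEquiv.apply_symm_apply]
    · intro h
      show t (t.symm x) = t.symm x
      rw [MulEquiv.apply_symm_apply, MulEquiv.eq_symm_apply]
      exact h
  let f : MulAut (A ⧸ K) := QuotientGroup.congr K K t hKt
  have hf : ∀ n : ℕ, ∀ x : A, (f ^ n) (QuotientGroup.mk x) = QuotientGroup.mk ((t ^ n) x) := by
    intro n
    induction n with
    | zero => intro x; rfl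
    | succ n ih => intro x; rw [pow_succ, pow_succ, MulAut.mul_apply, MulAut.mul_apply]; exact ih (t x)
  obtain ⟨k, hk⟩ := ht
  have hf2 : ∃ m : ℕ, orderOf f = 2 ^ m := by
    have h1 : f ^ (2 ^ k) = 1 := by
      ext q
      obtain ⟨x, rfl⟩ := QuotientGroup.mk_surjective q
      rw [hf, ← hk, pow_orderOf_eq_one]
      rfl
    obtain ⟨m, -, hm⟩ := (Nat.dvd_prime_pow Nat.prime_two).mp (orderOf_dvd_of_pow_eq_one h1)
    exact ⟨m, hm⟩
  haveI : Nontrivial (A ⧸ K) := QuotientGroup.nontrivial_iff.mpr hK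
  obtain ⟨q, hq, hfq⟩ := exists_fixed_orderOf (hA.to_quotient K) f hf2
  obtain ⟨a, rfl⟩ := QuotientGroup.mk_surjective q
  have ha2 : a ^ 2 ∈ K := by
    rw [← QuotientGroup.eq_one_iff]
    show ((a : A ⧸ K) ^ 2) = 1
    rw [← hq, pow_orderOf_eq_one]
  have haK : a ∉ K := by
    intro h
    rw [← QuotientGroup.eq_one_iff] at h
    rw [h, orderOf_one] at hq
    omega
  have hc : a⁻¹ * t a ∈ K := QuotientGroup.eq.mp hfq.symm
  -- `c = a⁻¹ * t a` is fixed and squares to one
  have h1 : t (a⁻¹ * t a) = a⁻¹ * t a := hc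
  have h2 : t (a ^ 2) = a ^ 2 := ha2
  have hsq : (a⁻¹ * t a) ^ 2 = 1 := by
    rw [mul_pow, inv_pow, ← map_pow, h2, inv_mul_cancel]
  have h3 : t (t a) = a := by
    calc t (t a) = t a * t (a⁻¹ * t a) := by rw [map_mul, map_inv, mul_inv_cancel_left]
      _ = a * (a⁻¹ * t a) * (a⁻¹ * t a) := by rw [h1, mul_inv_cancel_left]
      _ = a := by rw [mul_assoc, ← pow_two, hsq, mul_one]
  exact haK (hC a h3)

/-- The conjugation form of `fixed_of_sq`. -/
theorem commute_of_sq {G : Type*} [Group G] [Finite G] {B : Subgroup G} (hB : IsPGroup 2 B)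
    (hBa : IsMulCommutative B) {u : G} (hu : ∀ b ∈ B, u * b * u⁻¹ ∈ B)
    (hu2 : ∃ k : ℕ, u ^ (2 ^ k) = 1)
    (hC : ∀ b ∈ B, u ^ 2 * b = b * u ^ 2 → u * b = b * u) : ∀ b ∈ B, u * b = b * u := by
  letI : CommGroup B := { (inferInstance : Group B) with mul_comm := fun a b => hBa.is_comm.comm a b }
  let f : B →* B :=
    { toFun := fun b => ⟨u * b * u⁻¹, hu b b.2⟩
      map_one' := Subtype.ext (by simp)
      map_mul' := fun a b => Subtype.ext (by simp) }
  have hf : Function.Injective f := fun a b h => by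
    have : u * (a : G) * u⁻¹ = u * (b : G) * u⁻¹ := congrArg Subtype.val h
    exact Subtype.ext (mul_left_cancel (mul_right_cancel this))
  let t : MulAut B := MulEquiv.ofBijective f (Finite.injective_iff_bijective.mp hf)
  have ht : ∀ b : B, ((t b : B) : G) = u * b * u⁻¹ := fun _ => rfl
  have htn : ∀ n : ℕ, ∀ b : B, (((t ^ n) b : B) : G) = u ^ n * b * (u ^ n)⁻¹ := by
    intro n
    induction n with
    | zero => intro b; simp
    | succ n ih =>
      intro b
      rw [pow_succ t, MulAut.mul_apply, ih, ht, pow_succ u]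
      group
  obtain ⟨k, hk⟩ := hu2
  have hto : ∃ m : ℕ, orderOf t = 2 ^ m := by
    have h1 : t ^ (2 ^ k) = 1 := by
      ext b
      rw [htn, hk]
      simp
    obtain ⟨m, -, hm⟩ := (Nat.dvd_prime_pow Nat.prime_two).mp (orderOf_dvd_of_pow_eq_one h1)
    exact ⟨m, hm⟩
  have hfix := fixed_of_sq hB t hto fun b hb => by
    have h1 : u ^ 2 * (b : G) * (u ^ 2)⁻¹ = b := by
      rw [← htn 2 b, pow_two, MulAut.mul_apply, hb]
    have h2 := hC b b.2 (mul_inv_eq_iff_eq_mul.mp h1)
    exact Subtype.ext (by rw [ht, h2, mul_inv_cancel_right])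
  intro b hb
  have h := congrArg Subtype.val (hfix ⟨b, hb⟩)
  exact mul_inv_eq_iff_eq_mul.mp ((ht ⟨b, hb⟩).symm.trans h)

end Cfsg.Agent.TI
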