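import Cfsg.Agent.Lib.PGroup.ElementaryAbelian
import Cfsg.Agent.Lib.PGroup.Extraspecial
import Cfsg.Agent.Lib.TI.Abelian
import Mathlib.GroupTheory.NoncommCoprod
import Mathlib.Logic.Relation

/-!
# Elementary abelian 2-subgroups near a normal elementary abelian subgroup of order at least 32

* `card_le_sq_centralizer`: an element squaring to one acting on an elementary abelian 2-group `K`:
  `|K| ≤ |C_K(v)|^2`.
* `exists_eight_over_four`, `connected_eight`.
-/

set_option autoImplicit false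

namespace Cfsg.Agent.TI

open Subgroup
open scoped commutatorElement

variable {X : Type*} [Group X] [Finite X]

/-- An involution acting on an elementary abelian 2-group fixes at least the square root of it. -/
theorem card_le_sq_centralizer {K : Subgroup X} (hK : IsElementaryAbelian 2 K) {v : X} (hv : v * v = 1)
    (hn : ∀ k ∈ K, v * k * v⁻¹ ∈ K) :
    Nat.card K ≤ Nat.card ↥(K ⊓ centralizer {v}) * Nat.card ↥(K ⊓ centralizer {v}) := by
  have hinv : ∀ k ∈ K, k⁻¹ = k := fun k hk => inv_eq_of_mul_eq_one_right (by rw [← pow_two]; exact hK.2 k hk)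
  have hc : ∀ a ∈ K, ∀ b ∈ K, a * b = b * a := fun a ha b hb => PGroup.mul_comm_of_elementaryAbelian hK ha hb
  let f : K →* K := MonoidHom.mk' (fun k => ⟨v * k * v⁻¹ * k, mul_mem (hn k k.2) k.2⟩) fun a b => Subtype.ext (by
    show v * ((a : X) * b) * v⁻¹ * ((a : X) * b) = v * a * v⁻¹ * a * (v * b * v⁻¹ * b)
    calc v * ((a : X) * b) * v⁻¹ * ((a : X) * b)
        = v * a * v⁻¹ * ((v * b * v⁻¹) * a) * b := by group
      _ = v * a * v⁻¹ * (a * (v * b * v⁻¹)) * b := by rw [hc _ (hn b b.2) _ a.2]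
      _ = v * a * v⁻¹ * a * (v * b * v⁻¹ * b) := by group)
  have hfapp : ∀ k : K, (f k : X) = v * k * v⁻¹ * k := fun _ => rfl
  have hker : ∀ k : K, k ∈ f.ker → (k : X) ∈ K ⊓ centralizer {v} := by
    intro k hk
    have h : v * (k : X) * v⁻¹ * k = 1 := by
      rw [← hfapp, MonoidHom.mem_ker.mp hk]
      rfl
    rw [mul_eq_one_iff_eq_inv, hinv k k.2, mul_inv_eq_iff_eq_mul] at h
    exact mem_inf.mpr ⟨k.2, mem_centralizer_singleton_iff.mpr h.symm⟩
  have hran : ∀ k : K, k ∈ f.range → (k : X) ∈ K ⊓ centralizer {v} := by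
    rintro _ ⟨k, rfl⟩
    refine mem_inf.mpr ⟨(f k).2, mem_centralizer_singleton_iff.mpr ?_⟩
    rw [hfapp]
    have h := hc _ (hn k k.2) _ k.2
    rw [inv_eq_of_mul_eq_one_right hv] at h ⊢
    calc v * (k : X) * v * k * v = v * ((k : X) * (v * k * v)) := by group
      _ = v * (v * (k : X) * v * k) := by rw [← h]
  have h1 := Nat.card_le_card_of_injective (fun k : f.ker => (⟨_, hker k k.2⟩ : ↥(K ⊓ centralizer {v})))
    (fun a b h => by exact Subtype.ext (Subtype.ext (congrArg (fun x : ↥(K ⊓ centralizer {v}) => (x : X)) h :)))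
  have h2 := Nat.card_le_card_of_injective (fun k : f.range => (⟨_, hran k k.2⟩ : ↥(K ⊓ centralizer {v})))
    (fun a b h => by exact Subtype.ext (Subtype.ext (congrArg (fun x : ↥(K ⊓ centralizer {v}) => (x : X)) h :)))
  rw [← Subgroup.card_mul_index f.ker, Subgroup.index_ker]
  exact Nat.mul_le_mul h1 h2

/-- Adjoining a commuting involution outside an elementary abelian subgroup doubles it. -/
theorem adjoin {W : Subgroup X} (hW : IsElementaryAbelian 2 W) {x : X} (hx : x * x = 1)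
    (hc : ∀ w ∈ W, w * x = x * w) (hxW : x ∉ W) :
    IsElementaryAbelian 2 (W ⊔ zpowers x) ∧ Nat.card ↥(W ⊔ zpowers x) = Nat.card W * 2 := by
  have hx2 : x ^ 2 = 1 := by rw [pow_two]; exact hx
  have hcomm : ∀ a ∈ W, ∀ b ∈ zpowers x, a * b = b * a := by
    rintro a ha _ ⟨k, rfl⟩
    exact (Commute.zpow_right (hc a ha) k : Commute a (x ^ k))
  refine ⟨PGroup.isElementaryAbelian_sup hW (PGroup.isElementaryAbelian_zpowers hx2) hcomm, ?_⟩
  have hord : orderOf x = 2 := orderOf_eq_prime hx2 fun h => hxW (h ▸ one_mem W)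
  let φ : W × zpowers x →* X := MonoidHom.noncommCoprod W.subtype (zpowers x).subtype
    fun a b => hcomm a a.2 b b.2
  have hinj : Function.Injective φ := by
    rintro ⟨a, b⟩ ⟨a', b'⟩ h
    have h' : (a : X) * b = a' * b' := h
    have h2 : (a' : X)⁻¹ * a = b' * (b : X)⁻¹ := by
      calc (a' : X)⁻¹ * a = (a' : X)⁻¹ * ((a : X) * b) * (b : X)⁻¹ := by group
        _ = b' * (b : X)⁻¹ := by rw [h']; group
    have hb : (b' : X) * (b : X)⁻¹ = 1 := by
      by_contra hne
      obtain ⟨k, hk⟩ := mem_zpowers_iff.mp (mul_mem b'.2 (inv_mem b.2))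
      rcases Int.even_or_odd k with ⟨j, rfl⟩ | ⟨j, rfl⟩
      · rw [← two_mul, zpow_mul, zpow_ofNat, hx2, one_zpow] at hk
        exact hne hk.symm
      · rw [zpow_add, zpow_mul, zpow_ofNat, hx2, one_zpow, one_mul, zpow_one] at hk
        apply hxW
        rw [hk, ← h2]
        exact mul_mem (inv_mem a'.2) a.2
    have hb' : b = b' := Subtype.ext (mul_inv_eq_one.mp hb).symm
    subst hb'
    exact Prod.ext (Subtype.ext (mul_right_cancel h')) rfl
  have hrange : φ.range = W ⊔ zpowers x := by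
    show (MonoidHom.noncommCoprod W.subtype (zpowers x).subtype fun a b => hcomm a a.2 b b.2).range = _
    exact (MonoidHom.noncommCoprod_range _ _ _).trans (by rw [range_subtype, range_subtype])
  rw [← hrange, Nat.card_congr (MonoidHom.ofInjective hinj).symm.toEquiv, Nat.card_prod,
    Nat.card_zpowers, hord]

omit [Finite X] in
theorem mul_self_of_mem {A : Subgroup X} (hA : IsElementaryAbelian 2 A) {x : X} (hx : x ∈ A) : x * x = 1 := by
  rw [← pow_two]; exact hA.2 x hx

omit [Finite X] in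
theorem commute_of_mem {A : Subgroup X} (hA : IsElementaryAbelian 2 A) {x y : X} (hx : x ∈ A) (hy : y ∈ A) :
    x * y = y * x :=
  PGroup.mul_comm_of_elementaryAbelian hA hx hy

variable {E : Subgroup X} (hE : IsElementaryAbelian 2 E) [E.Normal] (hE32 : 32 ≤ Nat.card E)

omit [Finite X] [E.Normal] in
theorem mem_inf_centralizer_normal {v : X} {K : Subgroup X} (hK : ∀ k ∈ K, v * k * v⁻¹ ∈ K)
    {w : X} (hvw : v * w = w * v) : ∀ k ∈ K ⊓ centralizer {w}, v * k * v⁻¹ ∈ K ⊓ centralizer {w} := by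
  intro k hk
  obtain ⟨hk1, hk2⟩ := mem_inf.mp hk
  refine mem_inf.mpr ⟨hK k hk1, mem_centralizer_singleton_iff.mpr ?_⟩
  have h := mem_centralizer_singleton_iff.mp hk2
  have hc : Commute v w := hvw
  exact ((hc.mul_left (h : Commute k w)).mul_left hc.inv_left).eq

theorem exists_not_mem {K W : Subgroup X} (h : Nat.card W < Nat.card K) : ∃ x ∈ K, x ∉ W := by
  by_contra hcon
  push Not at hcon
  have := Nat.le_of_dvd Nat.card_pos (card_dvd_of_le (show K ≤ W from hcon))
  omega

include hE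

include hE32

theorem five_lt_card_centralizer {v : X} (hv : v * v = 1) :
    5 < Nat.card ↥(E ⊓ centralizer {v}) := by
  have h := card_le_sq_centralizer hE hv fun k hk => ‹E.Normal›.conj_mem k hk v
  nlinarith

theorem two_lt_card_centralizer_pair {v w : X} (hv : v * v = 1) (hw : w * w = 1) (hvw : v * w = w * v) :
    2 < Nat.card ↥(E ⊓ centralizer {v} ⊓ centralizer {w}) := by
  have h := card_le_sq_centralizer (PGroup.isElementaryAbelian_mono hE (inf_le_left (b := centralizer {v}))) hw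
    (mem_inf_centralizer_normal (fun k hk => ‹E.Normal›.conj_mem k hk w) hvw.symm)
  have h5 := five_lt_card_centralizer hE hE32 hv
  nlinarith

theorem one_lt_card_centralizer_triple {u v w : X} (hu : u * u = 1) (hv : v * v = 1) (hw : w * w = 1)
    (huv : u * v = v * u) (huw : u * w = w * u) (hvw : v * w = w * v) :
    1 < Nat.card ↥(E ⊓ centralizer {u} ⊓ centralizer {v} ⊓ centralizer {w}) := by
  have h := card_le_sq_centralizer
    (PGroup.isElementaryAbelian_mono hE (inf_le_left.trans inf_le_left :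
      E ⊓ centralizer {u} ⊓ centralizer {v} ≤ E)) hw
    (mem_inf_centralizer_normal (mem_inf_centralizer_normal (fun k hk => ‹E.Normal›.conj_mem k hk w) huw.symm) hvw.symm)
  have h2 := two_lt_card_centralizer_pair hE hE32 hu hv huv
  nlinarith

/-- Every four-subgroup lies in an elementary abelian subgroup of order 8. -/
theorem exists_eight_over_four {V : Subgroup X} (hV : IsElementaryAbelian 2 V) (hV4 : Nat.card V = 4) :
    ∃ A : Subgroup X, V ≤ A ∧ IsElementaryAbelian 2 A ∧ Nat.card A = 8 := by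
  obtain ⟨a, ha, ha1⟩ := exists_not_mem (K := V) (W := ⊥) (by rw [card_bot, hV4]; norm_num)
  have hsq : ∀ x ∈ V, x * x = 1 := fun x hx => mul_self_of_mem hV hx
  obtain ⟨hU, hUc⟩ := adjoin (PGroup.isElementaryAbelian_bot) (hsq a ha)
    (fun w hw => by rw [mem_bot] at hw; simp [hw]) ha1
  rw [card_bot] at hUc
  obtain ⟨b, hb, hb1⟩ := exists_not_mem (K := V) (W := ⊥ ⊔ zpowers a) (by rw [hUc, hV4]; norm_num)
  obtain ⟨hW, hWc⟩ := adjoin hU (hsq b hb)
    (fun w hw => commute_of_mem hV ((sup_le bot_le (zpowers_le.mpr ha) : ⊥ ⊔ zpowers a ≤ V) hw) hb) hb1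
  have hVeq : ⊥ ⊔ zpowers a ⊔ zpowers b = V := eq_of_le_of_card_ge
    (sup_le (sup_le bot_le (zpowers_le.mpr ha)) (zpowers_le.mpr hb)) (by rw [hWc, hUc, hV4])
  by_cases hVE : V ≤ E
  · obtain ⟨x, hx, hx1⟩ := exists_not_mem (K := E) (W := V) (by omega)
    obtain ⟨hA, hAc⟩ := adjoin hV (mul_self_of_mem hE hx) (fun w hw => commute_of_mem hE (hVE hw) hx) hx1
    exact ⟨_, le_sup_left, hA, by rw [hAc, hV4]⟩
  · set K := E ⊓ centralizer {a} ⊓ centralizer {b} with hK
    have hK2 : 2 < Nat.card K := two_lt_card_centralizer_pair hE hE32 (hsq a ha) (hsq b hb) (commute_of_mem hV ha hb)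
    obtain ⟨x, hx, hx1⟩ : ∃ x ∈ K, x ∉ V := by
      by_contra hcon
      push Not at hcon
      have hlt : Nat.card K < Nat.card V := by
        by_contra hge
        rw [not_lt] at hge
        exact hVE (le_of_eq_of_le (eq_of_le_of_card_ge (show K ≤ V from hcon) hge).symm
          (inf_le_left.trans inf_le_left))
      have hd := card_dvd_of_le (show K ≤ V from hcon)
      rw [hV4] at hd hlt
      interval_cases hn : Nat.card K <;> omega
    obtain ⟨⟨hxE, hxa⟩, hxb⟩ := hx
    have hxV : V ≤ centralizer {x} := by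
      rw [← hVeq]
      exact sup_le (sup_le bot_le (zpowers_le.mpr (mem_centralizer_singleton_iff.mpr
        (mem_centralizer_singleton_iff.mp hxa).symm))) (zpowers_le.mpr (mem_centralizer_singleton_iff.mpr
        (mem_centralizer_singleton_iff.mp hxb).symm))
    obtain ⟨hA, hAc⟩ := adjoin hV (mul_self_of_mem hE hxE)
      (fun w hw => mem_centralizer_singleton_iff.mp (hxV hw)) hx1
    exact ⟨_, le_sup_left, hA, by rw [hAc, hV4]⟩

/-- The commuting relation on elementary abelian subgroups of order 8. -/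
def EightRel (C D : Subgroup X) : Prop :=
  IsElementaryAbelian 2 C ∧ Nat.card ↥C = 8 ∧ IsElementaryAbelian 2 D ∧ Nat.card ↥D = 8 ∧ ⁅C, D⁆ = ⊥

/-- An elementary abelian `A` of order 8 with `|A ∩ E| ≥ 4` is joined to a subgroup of `E`. -/
theorem reach_of_four {A W : Subgroup X} (hA : IsElementaryAbelian 2 A) (hA8 : Nat.card A = 8)
    (hWA : W ≤ A) (hWE : W ≤ E) (hW : IsElementaryAbelian 2 W) (hW4 : Nat.card W = 4) :
    ∃ B, B ≤ E ∧ Nat.card B = 8 ∧ Relation.ReflTransGen EightRel A B := by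
  obtain ⟨v, hv, hv1⟩ := exists_not_mem (K := A) (W := W) (by omega)
  have hv2 := mul_self_of_mem hA hv
  obtain ⟨x, hx, hx1⟩ := exists_not_mem (K := E ⊓ centralizer {v}) (W := W)
    (by have := five_lt_card_centralizer hE hE32 hv2; omega)
  obtain ⟨hxE, hxv⟩ := mem_inf.mp hx
  obtain ⟨hB, hBc⟩ := adjoin hW (mul_self_of_mem hE hxE) (fun w hw => commute_of_mem hE (hWE hw) hxE) hx1
  refine ⟨W ⊔ zpowers x, sup_le hWE (zpowers_le.mpr hxE), by rw [hBc, hW4],
    .single ⟨hA, hA8, hB, by rw [hBc, hW4], ?_⟩⟩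
  obtain ⟨-, hAc⟩ := adjoin hW hv2 (fun w hw => commute_of_mem hA (hWA hw) hv) hv1
  have hAeq : W ⊔ zpowers v = A := eq_of_le_of_card_ge (sup_le hWA (zpowers_le.mpr hv)) (by rw [hAc, hW4, hA8])
  rw [commutator_eq_bot_iff_le_centralizer, ← hAeq]
  refine sup_le ?_ (zpowers_le.mpr ?_) <;> rw [PGroup.centralizer_sup_zpowers]
  · exact fun w hw => mem_inf.mpr ⟨mem_centralizer_iff.mpr fun y hy => commute_of_mem hE (hWE hy) (hWE hw),
      mem_centralizer_singleton_iff.mpr (commute_of_mem hE (hWE hw) hxE)⟩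
  · exact mem_inf.mpr ⟨mem_centralizer_iff.mpr fun y hy => commute_of_mem hA (hWA hy) hv,
      mem_centralizer_singleton_iff.mpr (mem_centralizer_singleton_iff.mp hxv).symm⟩

/-- An elementary abelian `A` of order 8 meeting `E` is joined to a subgroup of `E`. -/
theorem reach_of_two {A : Subgroup X} (hA : IsElementaryAbelian 2 A) (hA8 : Nat.card A = 8)
    {e : X} (heA : e ∈ A) (heE : e ∈ E) (he1 : e ≠ 1) :
    ∃ B, B ≤ E ∧ Nat.card B = 8 ∧ Relation.ReflTransGen EightRel A B := by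
  obtain ⟨hU, hUc⟩ := adjoin (PGroup.isElementaryAbelian_bot) (mul_self_of_mem hE heE)
    (fun w hw => by rw [mem_bot] at hw; simp [hw]) (by simpa using he1)
  rw [card_bot] at hUc
  set U := ⊥ ⊔ zpowers e with hUdef
  have hUA : U ≤ A := sup_le bot_le (zpowers_le.mpr heA)
  have hUE : U ≤ E := sup_le bot_le (zpowers_le.mpr heE)
  obtain ⟨a, ha, ha1⟩ := exists_not_mem (K := A) (W := U) (by omega)
  obtain ⟨hU', hU'c⟩ := adjoin hU (mul_self_of_mem hA ha) (fun w hw => commute_of_mem hA (hUA hw) ha) ha1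
  set U' := U ⊔ zpowers a with hU'def
  have hU'A : U' ≤ A := sup_le hUA (zpowers_le.mpr ha)
  by_cases haE : a ∈ E
  · exact reach_of_four hE hE32 hA hA8 hU'A (sup_le hUE (zpowers_le.mpr haE)) hU' (by omega)
  obtain ⟨b, hb, hb1⟩ := exists_not_mem (K := A) (W := U') (by omega)
  obtain ⟨-, hAc⟩ := adjoin hU' (mul_self_of_mem hA hb) (fun w hw => commute_of_mem hA (hU'A hw) hb) hb1
  have hAeq : U' ⊔ zpowers b = A := eq_of_le_of_card_ge (sup_le hU'A (zpowers_le.mpr hb)) (by omega)
  obtain ⟨f, hf, hf1⟩ := exists_not_mem (K := E ⊓ centralizer {a} ⊓ centralizer {b}) (W := U)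
    (by have := two_lt_card_centralizer_pair hE hE32 (mul_self_of_mem hA ha) (mul_self_of_mem hA hb)
          (commute_of_mem hA ha hb); omega)
  obtain ⟨⟨hfE, hfa⟩, hfb⟩ := hf
  obtain ⟨hW, hWc⟩ := adjoin hU (mul_self_of_mem hE hfE) (fun w hw => commute_of_mem hE (hUE hw) hfE) hf1
  set W := U ⊔ zpowers f with hWdef
  have hWE : W ≤ E := sup_le hUE (zpowers_le.mpr hfE)
  have hWa : ∀ w ∈ W, w * a = a * w := fun w hw =>
    mem_centralizer_singleton_iff.mp ((sup_le (fun u hu => mem_centralizer_singleton_iff.mpr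
      (commute_of_mem hA (hUA hu) ha)) (zpowers_le.mpr hfa) : W ≤ centralizer {a}) hw)
  obtain ⟨hA', hA'c⟩ := adjoin hW (mul_self_of_mem hA ha) hWa (fun h => haE (hWE h))
  obtain ⟨B, hB, hB8, hr⟩ := reach_of_four hE hE32 hA' (by omega) (le_sup_left (b := zpowers a)) hWE hW (by omega)
  refine ⟨B, hB, hB8, .head ⟨hA, hA8, hA', by omega, ?_⟩ hr⟩
  rw [commutator_eq_bot_iff_le_centralizer, ← hAeq]
  have haA : ∀ y ∈ A, y * a = a * y := fun y hy => commute_of_mem hA hy ha
  refine sup_le (sup_le ?_ (zpowers_le.mpr ?_)) (zpowers_le.mpr ?_) <;> rw [PGroup.centralizer_sup_zpowers]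
  · exact fun u hu => mem_inf.mpr ⟨mem_centralizer_iff.mpr fun y hy => commute_of_mem hE (hWE hy) (hUE hu),
      mem_centralizer_singleton_iff.mpr (haA u (hUA hu))⟩
  · exact mem_inf.mpr ⟨mem_centralizer_iff.mpr hWa, mem_centralizer_singleton_iff.mpr rfl⟩
  · refine mem_inf.mpr ⟨?_, mem_centralizer_singleton_iff.mpr (haA b hb)⟩
    rw [hWdef, PGroup.centralizer_sup_zpowers]
    exact mem_inf.mpr ⟨mem_centralizer_iff.mpr fun y hy => commute_of_mem hA (hUA hy) hb,
      mem_centralizer_singleton_iff.mpr (mem_centralizer_singleton_iff.mp hfb).symm⟩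

/-- Every elementary abelian subgroup of order 8 is joined to a subgroup of `E`. -/
theorem reach_normal {A : Subgroup X} (hA : IsElementaryAbelian 2 A) (hA8 : Nat.card A = 8) :
    ∃ B, B ≤ E ∧ Nat.card B = 8 ∧ Relation.ReflTransGen EightRel A B := by
  by_cases hAE : ∃ e ∈ A, e ∈ E ∧ e ≠ 1
  · obtain ⟨e, h1, h2, h3⟩ := hAE
    exact reach_of_two hE hE32 hA hA8 h1 h2 h3
  push Not at hAE
  have hsq : ∀ x ∈ A, x * x = 1 := fun x hx => mul_self_of_mem hA hx
  obtain ⟨a, ha, ha1⟩ := exists_not_mem (K := A) (W := ⊥) (by rw [card_bot]; omega)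
  obtain ⟨hU, hUc⟩ := adjoin (PGroup.isElementaryAbelian_bot) (hsq a ha)
    (fun w hw => by rw [mem_bot] at hw; simp [hw]) ha1
  rw [card_bot] at hUc
  set U := ⊥ ⊔ zpowers a with hUdef
  have hUA : U ≤ A := sup_le bot_le (zpowers_le.mpr ha)
  obtain ⟨b, hb, hb1⟩ := exists_not_mem (K := A) (W := U) (by omega)
  obtain ⟨hV, hVc⟩ := adjoin hU (hsq b hb) (fun w hw => commute_of_mem hA (hUA hw) hb) hb1
  set V := U ⊔ zpowers b with hVdef
  have hVA : V ≤ A := sup_le hUA (zpowers_le.mpr hb)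
  obtain ⟨c, hc, hc1⟩ := exists_not_mem (K := A) (W := V) (by omega)
  obtain ⟨-, hAc⟩ := adjoin hV (hsq c hc) (fun w hw => commute_of_mem hA (hVA hw) hc) hc1
  have hAeq : V ⊔ zpowers c = A := eq_of_le_of_card_ge (sup_le hVA (zpowers_le.mpr hc)) (by omega)
  obtain ⟨e, he, he1⟩ := exists_not_mem (K := E ⊓ centralizer {a} ⊓ centralizer {b} ⊓ centralizer {c})
    (W := (⊥ : Subgroup X)) (by
      rw [card_bot]
      exact one_lt_card_centralizer_triple hE hE32 (hsq a ha) (hsq b hb) (hsq c hc)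
        (commute_of_mem hA ha hb) (commute_of_mem hA ha hc) (commute_of_mem hA hb hc))
  obtain ⟨⟨⟨heE, hea⟩, heb⟩, hec⟩ := he
  have he1' : e ≠ 1 := fun h => he1 (by simp [h])
  have hVe : ∀ w ∈ V, w * e = e * w := fun w hw =>
    mem_centralizer_singleton_iff.mp ((sup_le (sup_le bot_le (zpowers_le.mpr (mem_centralizer_singleton_iff.mpr
      (mem_centralizer_singleton_iff.mp hea).symm))) (zpowers_le.mpr (mem_centralizer_singleton_iff.mpr
      (mem_centralizer_singleton_iff.mp heb).symm)) : V ≤ centralizer {e}) hw)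
  obtain ⟨hA', hA'c⟩ := adjoin hV (mul_self_of_mem hE heE) hVe (fun h => he1' (hAE e (hVA h) heE))
  obtain ⟨B, hB, hB8, hr⟩ := reach_of_two hE hE32 hA' (by omega)
    (mem_sup_right (mem_zpowers e)) heE he1'
  refine ⟨B, hB, hB8, .head ⟨hA, hA8, hA', by omega, ?_⟩ hr⟩
  rw [commutator_eq_bot_iff_le_centralizer, ← hAeq]
  refine sup_le ?_ (zpowers_le.mpr ?_) <;> rw [PGroup.centralizer_sup_zpowers]
  · exact fun u hu => mem_inf.mpr ⟨mem_centralizer_iff.mpr fun y hy => commute_of_mem hA (hVA hy) (hVA hu),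
      mem_centralizer_singleton_iff.mpr (hVe u hu)⟩
  · exact mem_inf.mpr ⟨mem_centralizer_iff.mpr fun y hy => commute_of_mem hA (hVA hy) hc,
      mem_centralizer_singleton_iff.mpr (mem_centralizer_singleton_iff.mp hec).symm⟩

/-- The commuting graph on elementary abelian subgroups of order 8 is connected. -/
theorem connected_eight {A B : Subgroup X} (hA : IsElementaryAbelian 2 A) (hA8 : Nat.card A = 8)
    (hB : IsElementaryAbelian 2 B) (hB8 : Nat.card B = 8) : Relation.ReflTransGen EightRel A B := by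
  obtain ⟨A', hA', hA'8, hr⟩ := reach_normal hE hE32 hA hA8
  obtain ⟨B', hB', hB'8, hs⟩ := reach_normal hE hE32 hB hB8
  have hsymm : ∀ C D : Subgroup X, Relation.ReflTransGen EightRel C D → Relation.ReflTransGen EightRel D C := by
    intro C D h
    induction h with
    | refl => exact .refl
    | tail _ h ih => exact ih.head ⟨h.2.2.1, h.2.2.2.1, h.1, h.2.1, by rw [commutator_comm]; exact h.2.2.2.2⟩
  refine (hr.tail ⟨PGroup.isElementaryAbelian_mono hE hA', hA'8, PGroup.isElementaryAbelian_mono hE hB', hB'8,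
    ?_⟩).trans (hsymm _ _ hs)
  rw [commutator_eq_bot_iff_le_centralizer]
  exact fun x hx => mem_centralizer_iff.mpr fun y hy => commute_of_mem hE (hB' hy) (hA' hx)

end Cfsg.Agent.TI
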